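import Groth.Agent.HopfDescLib.Compare
import Groth.Agent.QIsoLib.ModNil
import Groth.Agent.HenselLib.Criteria

set_option autoImplicit false

/-!
Lifting groups of multiplicative type.
-/

noncomputable section

universe u

open scoped TensorProduct
open Groth.Agent.TorusField Groth.Agent.DiagHopf

namespace Groth.Agent.HopfDesc

variable {R : Type u} [CommRing R] {I : Ideal R}

theorem red_eq_zero_iff {U : Type u} [CommRing U] [Algebra R U] (x : U) :
    red I U x = 0 ↔ x ∈ I.map (algebraMap R U) := by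
  rw [← Ideal.Quotient.eq_zero_iff_mem, ← (Algebra.TensorProduct.quotIdealMapEquivTensorQuot U I).injective.eq_iff,
    map_zero, show Algebra.TensorProduct.quotIdealMapEquivTensorQuot U I (Ideal.Quotient.mk _ x) =
      x ⊗ₜ[R] (1 : R ⧸ I) from (Algebra.TensorProduct.quotIdealMapEquivTensorQuot U I).commutes x,
    ← (Algebra.TensorProduct.comm R U (R ⧸ I)).injective.eq_iff, map_zero]
  rfl

theorem red_surjective (U : Type u) [CommRing U] [Algebra R U] : Function.Surjective (red I U) :=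
  Algebra.TensorProduct.includeRight_surjective U Ideal.Quotient.mk_surjective

theorem liftable_of_bijOn {U : Type u} [CommRing U] [Algebra R U]
    (h : Set.BijOn (Ideal.Quotient.mk (I.map (algebraMap R U))) {e : U | IsIdempotentElem e} {e | IsIdempotentElem e}) :
    Liftable I U := by
  have key : ∀ x y : U, red I U x = red I U y ↔
      Ideal.Quotient.mk (I.map (algebraMap R U)) x = Ideal.Quotient.mk (I.map (algebraMap R U)) y := fun x y => by
    rw [← sub_eq_zero, ← map_sub, red_eq_zero_iff, Ideal.Quotient.eq]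
  refine ⟨fun e he => IsIdempotentElem.map he _, fun e he e' he' hee => h.injOn he he' ((key e e').1 hee), ?_⟩
  intro y hy
  obtain ⟨b, rfl⟩ := red_surjective U y
  have hb : IsIdempotentElem (Ideal.Quotient.mk (I.map (algebraMap R U)) b) := by
    show _ * _ = _
    rw [← map_mul, ← key, map_mul]
    exact hy
  obtain ⟨e, he, heb⟩ := h.surjOn hb
  exact ⟨e, he, (key e b).2 heb⟩

theorem liftable_of_nil (hI : ∀ x ∈ I, IsNilpotent x) (U : Type u) [CommRing U] [Algebra R U] : Liftable I U := by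
  have hker : ∀ x ∈ RingHom.ker (red I U).toRingHom, IsNilpotent x := fun x hx => by
    refine mem_nilradical.1 (Ideal.map_le_iff_le_comap.2 (fun y hy => ?_) ((red_eq_zero_iff x).1 hx))
    exact mem_nilradical.2 ((hI y hy).map (algebraMap R U))
  refine ⟨fun e he => IsIdempotentElem.map he _, fun e he e' he' hee => ?_, fun y hy => ?_⟩
  · exact eq_of_isNilpotent_sub_of_isIdempotentElem he he' (hker _ (by
      show red I U (e - e') = 0
      rw [map_sub, hee, sub_self]))
  · obtain ⟨e, he, hey⟩ := exists_isIdempotentElem_eq_of_ker_isNilpotent (red I U).toRingHom hker y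
      (red_surjective U y) hy
    exact ⟨e, he, hey⟩

theorem liftable_of_finite [HenselianRing R I] (U : Type u) [CommRing U] [Algebra R U] [Module.Finite R U] :
    Liftable I U :=
  haveI := Algebra.IsIntegral.of_finite R U
  liftable_of_bijOn HenselLib.idempotent_bijOn

theorem exists_bar_equiv {T C : Type u} [CommRing T] [Algebra R T] [CommRing C] [Algebra R C] [Algebra (R ⧸ I) C]
    [IsScalarTower R (R ⧸ I) C] (φ : T →ₐ[R] C) (hφ : Function.Surjective φ)
    (hker : RingHom.ker φ = I.map (algebraMap R T)) : Nonempty (B I T ≃ₐ[R ⧸ I] C) := by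
  let α : B I T →ₐ[R ⧸ I] C := Algebra.TensorProduct.lift (Algebra.ofId (R ⧸ I) C) φ fun _ _ => Commute.all _ _
  have hα : ∀ t, α (red I T t) = φ t := fun t => by simp [α, red]
  refine ⟨AlgEquiv.ofBijective α ⟨(injective_iff_map_eq_zero α).2 fun z hz => ?_, fun c => ?_⟩⟩
  · obtain ⟨t, rfl⟩ := red_surjective T z
    rw [red_eq_zero_iff, ← hker]
    exact (hα t).symm.trans hz
  · obtain ⟨t, rfl⟩ := hφ c
    exact ⟨_, hα t⟩

theorem exists_lift {A₀ : Type u} [CommRing A₀] [HopfAlgebra (R ⧸ I) A₀] {ι : Type u} [Fintype ι]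
    {T : ι → Type u} [∀ i, CommRing (T i)] [∀ i, Algebra R (T i)] [∀ i, Module.Flat R (T i)]
    [Module.FaithfullyFlat R (Π i, T i)] {M : ι → Type u} [∀ i, AddCommGroup (M i)]
    (E : ∀ i, Split (R ⧸ I) A₀ (M i) (B I (T i))) (hT₁ : ∀ i, Rigid I (T i))
    (hT₂ : ∀ i j, Liftable I (T i ⊗[R] T j)) (hT₃ : ∀ i j k, Rigid I ((T i ⊗[R] T j) ⊗[R] T k)) :
    ∃ (A : Type u) (_ : CommRing A) (_ : HopfAlgebra R A),
      (∀ i, Nonempty (Split R A (M i) (T i))) ∧ Nonempty (((R ⧸ I) ⊗[R] A) ≃ₐc[R ⧸ I] A₀) := by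
  classical
  letI : Algebra R A₀ := ((algebraMap (R ⧸ I) A₀).comp (Ideal.Quotient.mk I)).toAlgebra
  haveI : IsScalarTower R (R ⧸ I) A₀ := IsScalarTower.of_algebraMap_eq fun _ => rfl
  obtain ⟨d, hd⟩ := exists_datum E hT₁ hT₂ hT₃
  exact ⟨d.F, inferInstance, d.atlas.hopf, fun i => ⟨d.atlas.split i⟩, exists_reduction_equiv E d hd⟩

theorem exists_local_lift (hI : ∀ x ∈ I, IsNilpotent x) {A₀ : Type u} [CommRing A₀] [HopfAlgebra (R ⧸ I) A₀] (f : R)
    (h : SGA3b.IsQuasiIsotrivialConst (Localization.Away (Ideal.Quotient.mk I f))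
      (Localization.Away (Ideal.Quotient.mk I f) ⊗[R ⧸ I] A₀)) :
    ∃ (T : Type u) (_ : CommRing T) (_ : Algebra R T) (_ : Algebra (Localization.Away f) T)
      (_ : IsScalarTower R (Localization.Away f) T) (N : Type u) (_ : CommGroup N),
      Algebra.Etale (Localization.Away f) T ∧ Module.FaithfullyFlat (Localization.Away f) T ∧
        Nonempty (Split (R ⧸ I) A₀ (Additive N) (B I T)) := by
  obtain ⟨C, _, _, hetC, hffC, N, _, ⟨e⟩⟩ := h
  haveI := hetC; haveI := hffC
  let R₀ := Localization.Away (Ideal.Quotient.mk I f)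
  haveI : Algebra.Etale (R ⧸ I) R₀ := Algebra.Etale.of_isLocalizationAway (Ideal.Quotient.mk I f)
  letI : Algebra (R ⧸ I) C := ((algebraMap R₀ C).comp (algebraMap (R ⧸ I) R₀)).toAlgebra
  haveI : IsScalarTower (R ⧸ I) R₀ C := IsScalarTower.of_algebraMap_eq fun _ => rfl
  haveI : Algebra.Etale (R ⧸ I) C := Algebra.Etale.comp (R ⧸ I) R₀ C
  letI : Algebra R C := ((algebraMap (R ⧸ I) C).comp (Ideal.Quotient.mk I)).toAlgebra
  haveI : IsScalarTower R (R ⧸ I) C := IsScalarTower.of_algebraMap_eq fun _ => rfl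
  obtain ⟨T, _, _, hetT, φ, hφ, hker⟩ := HenselLib.exists_etale_lift (A := R) I C
  haveI := hetT
  have hf' : IsUnit (algebraMap R T f) := by
    have hu : IsUnit (φ (algebraMap R T f)) := by
      rw [AlgHom.commutes]
      exact (IsLocalization.Away.algebraMap_isUnit (S := R₀) (Ideal.Quotient.mk I f)).map (algebraMap R₀ C)
    obtain ⟨u, hu⟩ := hu
    obtain ⟨v, hv⟩ := hφ ↑u⁻¹
    have hmem : algebraMap R T f * v - 1 ∈ RingHom.ker φ := by
      rw [RingHom.mem_ker, map_sub, map_mul, ← hu, hv, Units.mul_inv, map_one, sub_self]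
    rw [hker] at hmem
    have hn : IsNilpotent (algebraMap R T f * v - 1) := by
      refine mem_nilradical.1 (Ideal.map_le_iff_le_comap.2 (fun y hy => ?_) hmem)
      exact mem_nilradical.2 ((hI y hy).map (algebraMap R T))
    have := hn.isUnit_add_one
    rw [sub_add_cancel] at this
    exact isUnit_of_mul_isUnit_left this
  let g : Localization.Away f →+* T := IsLocalization.Away.lift f hf'
  letI : Algebra (Localization.Away f) T := g.toAlgebra
  haveI : IsScalarTower R (Localization.Away f) T := IsScalarTower.of_algebraMap_eq fun x =>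
    (IsLocalization.Away.lift_eq f hf' x).symm
  haveI : Algebra.Etale R (Localization.Away f) := Algebra.Etale.of_isLocalizationAway f
  haveI : Algebra.Etale (Localization.Away f) T := Algebra.Etale.of_restrictScalars R _ T
  refine ⟨T, inferInstance, inferInstance, inferInstance, inferInstance, N, inferInstance, inferInstance,
    Module.FaithfullyFlat.of_comap_surjective fun P => ?_, ?_⟩
  · let p := PrimeSpectrum.comap (algebraMap R (Localization.Away f)) P
    have hfp : f ∉ p.asIdeal := fun h =>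
      P.2.ne_top (Ideal.eq_top_of_isUnit_mem _ h (IsLocalization.Away.algebraMap_isUnit f))
    have hIp : I ≤ p.asIdeal := fun x hx => p.2.mem_of_pow_mem _ ((hI x hx).choose_spec ▸ p.asIdeal.zero_mem)
    let p₁ : PrimeSpectrum (R ⧸ I) := ⟨p.asIdeal.map (Ideal.Quotient.mk I),
      Ideal.map_isPrime_of_surjective Ideal.Quotient.mk_surjective (by rw [Ideal.mk_ker]; exact hIp)⟩
    have hp₁ : p₁.asIdeal.comap (Ideal.Quotient.mk I) = p.asIdeal := by
      rw [Ideal.comap_map_of_surjective _ Ideal.Quotient.mk_surjective, ← RingHom.ker_eq_comap_bot, Ideal.mk_ker,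
        sup_eq_left]
      exact hIp
    obtain ⟨p₀, hp₀⟩ : p₁ ∈ Set.range (PrimeSpectrum.comap (algebraMap (R ⧸ I) R₀)) := by
      rw [PrimeSpectrum.localization_away_comap_range R₀ (Ideal.Quotient.mk I f)]
      intro h
      exact hfp (hp₁ ▸ h)
    obtain ⟨Q, hQ⟩ := PrimeSpectrum.comap_surjective_of_faithfullyFlat (B := C) p₀
    refine ⟨PrimeSpectrum.comap φ.toRingHom Q,
      PrimeSpectrum.localization_comap_injective (Localization.Away f) (Submonoid.powers f) (PrimeSpectrum.ext ?_)⟩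
    show ((Q.asIdeal.comap φ.toRingHom).comap (algebraMap (Localization.Away f) T)).comap
      (algebraMap R (Localization.Away f)) = p.asIdeal
    rw [Ideal.comap_comap, Ideal.comap_comap, ← IsScalarTower.algebraMap_eq,
      show φ.toRingHom.comp (algebraMap R T) = ((algebraMap R₀ C).comp (algebraMap (R ⧸ I) R₀)).comp (Ideal.Quotient.mk I)
        from RingHom.ext fun x => φ.commutes x, ← Ideal.comap_comap, ← Ideal.comap_comap,
      show Q.asIdeal.comap (algebraMap R₀ C) = p₀.asIdeal from congrArg PrimeSpectrum.asIdeal hQ,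
      show p₀.asIdeal.comap (algebraMap (R ⧸ I) R₀) = p₁.asIdeal from congrArg PrimeSpectrum.asIdeal hp₀, hp₁]
  · obtain ⟨E₀⟩ := exists_split_of_bialgEquiv e
    obtain ⟨E₁⟩ := exists_split_transfer E₀
    obtain ⟨ε⟩ := exists_bar_equiv φ hφ hker
    obtain ⟨E₂, -⟩ := exists_split_push E₁ ε.symm.toAlgHom
    exact ⟨E₂⟩

theorem quasiIsotrivial_lifts (hI : ∀ x ∈ I, IsNilpotent x) (A₀ : Type u) [CommRing A₀] [HopfAlgebra (R ⧸ I) A₀]
    (h0 : SGA3b.IsQuasiIsotrivial (R ⧸ I) A₀) :
    ∃ (A : Type u) (_ : CommRing A) (_ : HopfAlgebra R A),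
      SGA3b.IsQuasiIsotrivial R A ∧ Nonempty (((R ⧸ I) ⊗[R] A) ≃ₐc[R ⧸ I] A₀) := by
  classical
  obtain ⟨s₀, hs₀, H⟩ := h0
  have hs : Ideal.span (Ideal.Quotient.mk I ⁻¹' s₀) = ⊤ := by
    have h1 : (1 : R ⧸ I) ∈ Ideal.span (Ideal.Quotient.mk I '' (Ideal.Quotient.mk I ⁻¹' s₀)) := by
      rw [Set.image_preimage_eq _ Ideal.Quotient.mk_surjective, hs₀]; trivial
    rw [← Ideal.map_span] at h1
    obtain ⟨y, hy, hy1⟩ := (Ideal.mem_map_iff_of_surjective _ Ideal.Quotient.mk_surjective).1 h1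
    have hu : IsUnit y := by
      have h0 : Ideal.Quotient.mk I (y - 1) = 0 := by rw [map_sub, hy1, map_one, sub_self]
      have := (hI _ (Ideal.Quotient.eq_zero_iff_mem.1 h0)).isUnit_add_one
      rwa [sub_add_cancel] at this
    exact Ideal.eq_top_of_isUnit_mem _ hy hu
  obtain ⟨t, hts, ht⟩ := (Ideal.span_eq_top_iff_finite _).1 hs
  choose T i1 i2 i3 i4 N i5 het hff hE using fun f : (t : Set R) => exists_local_lift hI f.1 (H _ (hts f.2))
  haveI hflat : ∀ f, Module.Flat R (T f) := fun f => by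
    haveI : Module.Flat R (Localization.Away f.1) := IsLocalization.flat _ (Submonoid.powers f.1)
    haveI := hff f
    exact Module.Flat.trans R (Localization.Away f.1) (T f)
  haveI : Module.FaithfullyFlat R (Π f, T f) := by
    refine @faithfullyFlat_pi R _ _ _ T i1 i2 hflat fun m hm => ?_
    obtain ⟨f, hft, hfm⟩ : ∃ f ∈ t, f ∉ m := by
      by_contra hne
      push Not at hne
      exact hm.ne_top (top_le_iff.1 (ht ▸ Ideal.span_le.2 fun f hf => hne f hf))
    refine ⟨⟨f, hft⟩, fun htop => ?_⟩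
    letI := i3 ⟨f, hft⟩
    haveI := i4 ⟨f, hft⟩
    haveI := hff ⟨f, hft⟩
    have hm' : m.map (algebraMap R (Localization.Away f)) ≠ ⊤ := by
      haveI := hm.isPrime
      exact (IsLocalization.map_algebraMap_ne_top_iff_disjoint (Submonoid.powers f) (Localization.Away f) m).2
        ((Ideal.disjoint_powers_iff_notMem_of_isPrime f).2 hfm)
    rw [Ideal.smul_top_eq_map, Submodule.restrictScalars_eq_top_iff,
      IsScalarTower.algebraMap_eq R (Localization.Away f) (T ⟨f, hft⟩), ← Ideal.map_map] at htop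
    obtain ⟨M', hM', hle⟩ := Ideal.exists_le_maximal _ hm'
    refine Module.FaithfullyFlat.submodule_ne_top (M := T ⟨f, hft⟩) hM' ?_
    rw [Ideal.smul_top_eq_map, Submodule.restrictScalars_eq_top_iff, eq_top_iff, ← htop]
    exact Ideal.map_mono hle
  obtain ⟨A, iA, iH, hsplit, he⟩ := exists_lift (fun f => (hE f).some) (fun f => (liftable_of_nil hI _).injOn)
    (fun f g => liftable_of_nil hI _) fun f g k => (liftable_of_nil hI _).injOn
  refine ⟨A, iA, iH, ⟨t, ht, fun f hf => ?_⟩, he⟩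
  obtain ⟨E⟩ := hsplit ⟨f, hf⟩
  letI := i3 ⟨f, hf⟩
  haveI := i4 ⟨f, hf⟩
  obtain ⟨E'⟩ := exists_split_transfer' (R' := Localization.Away f) E
  letI := i5 ⟨f, hf⟩
  have hd : SGA3b.IsDiag (T ⟨f, hf⟩) (T ⟨f, hf⟩ ⊗[Localization.Away f] (Localization.Away f ⊗[R] A)) :=
    ⟨N ⟨f, hf⟩, i5 ⟨f, hf⟩, exists_bialgEquiv E'⟩
  exact ⟨T ⟨f, hf⟩, i1 ⟨f, hf⟩, i3 ⟨f, hf⟩, het ⟨f, hf⟩, hff ⟨f, hf⟩, hd⟩

theorem isotrivial_lifts [HenselianRing R I] (A₀ : Type u) [CommRing A₀] [HopfAlgebra (R ⧸ I) A₀]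
    (h0 : SGA3b.IsIsotrivial (R ⧸ I) A₀) :
    ∃ (A : Type u) (_ : CommRing A) (_ : HopfAlgebra R A),
      SGA3b.IsIsotrivial R A ∧ Nonempty (((R ⧸ I) ⊗[R] A) ≃ₐc[R ⧸ I] A₀) := by
  classical
  obtain ⟨C, _, _, hetC, hfinC, hffC, N, _, ⟨e⟩⟩ := h0
  haveI := hetC; haveI := hfinC; haveI := hffC
  letI : Algebra R C := ((algebraMap (R ⧸ I) C).comp (Ideal.Quotient.mk I)).toAlgebra
  haveI : IsScalarTower R (R ⧸ I) C := IsScalarTower.of_algebraMap_eq fun _ => rfl
  obtain ⟨T, _, _, hfinT, hetT, ⟨ε⟩⟩ := HenselLib.exists_finite_etale_lift (A := R) (I := I) (C := C)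
  haveI := hfinT; haveI := hetT
  obtain ⟨E₀⟩ := exists_split_of_bialgEquiv e
  obtain ⟨E₂, -⟩ := exists_split_push E₀ ε.symm.toAlgHom
  haveI hff : Module.FaithfullyFlat R T := ⟨fun {m} hm htop => by
    have hIm : I ≤ m := fun x hx => by
      have hx' := HenselianRing.jac (I := I) hx
      rw [Ideal.jacobson, Submodule.mem_sInf] at hx'
      exact hx' m ⟨bot_le, hm⟩
    have hmax : (m.map (Ideal.Quotient.mk I)).IsMaximal :=
      Ideal.IsMaximal.map_of_surjective_of_ker_le Ideal.Quotient.mk_surjective (by rwa [Ideal.mk_ker])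
    refine Module.FaithfullyFlat.submodule_ne_top (M := C) hmax ?_
    rw [Ideal.smul_top_eq_map, Submodule.restrictScalars_eq_top_iff] at htop ⊢
    let φ : T →+* C := ε.toAlgHom.toRingHom.comp (Algebra.TensorProduct.includeRight : T →ₐ[R] (R ⧸ I) ⊗[R] T).toRingHom
    have hφ : φ.comp (algebraMap R T) = (algebraMap (R ⧸ I) C).comp (Ideal.Quotient.mk I) := RingHom.ext fun x => by
      show ε (red I T (algebraMap R T x)) = algebraMap (R ⧸ I) C (Ideal.Quotient.mk I x)
      rw [AlgHom.commutes, Algebra.TensorProduct.algebraMap_apply]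
      exact ε.commutes _
    rw [Ideal.map_map, ← hφ, ← Ideal.map_map, htop, Ideal.map_top]⟩
  haveI : Module.FaithfullyFlat R (PUnit.{u + 1} → T) :=
    faithfullyFlat_pi (fun _ => T) (fun _ => inferInstance) fun m hm => ⟨PUnit.unit, hff.submodule_ne_top hm⟩
  obtain ⟨A, iA, iH, hsplit, he⟩ := exists_lift (ι := PUnit.{u + 1}) (T := fun _ => T) (fun _ => E₂)
    (fun _ => (liftable_of_finite T).injOn) (fun _ _ => liftable_of_finite _)
    fun _ _ _ => (liftable_of_finite _).injOn
  obtain ⟨E⟩ := hsplit PUnit.unit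
  exact ⟨A, iA, iH, ⟨T, inferInstance, inferInstance, hetT, hfinT, hff, N, inferInstance, exists_bialgEquiv E⟩, he⟩

end Groth.Agent.HopfDesc
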