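import Groth.Agent.HopfDescLib.Datum

set_option autoImplicit false

/-!
Elements of group algebras whose coefficients are complete orthogonal idempotents.
-/

noncomputable section

universe u

open scoped TensorProduct
open MonoidAlgebra

namespace Groth.Agent.HopfDesc

variable {R U V : Type u} [CommRing R] [CommRing U] [CommRing V] [Algebra R U] [Algebra R V]
  {G H : Type u} [CommGroup G] [CommGroup H]

/-- The diagonal on exponents. -/
def cD (U G : Type u) [CommRing U] [CommGroup G] : MonoidAlgebra U G →ₐ[U] MonoidAlgebra U (G × G) :=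
  mapDomainAlgHom U U ((MonoidHom.id G).prod (MonoidHom.id G))

/-- The first inclusion on exponents. -/
def cJ₁ (U G : Type u) [CommRing U] [CommGroup G] : MonoidAlgebra U G →ₐ[U] MonoidAlgebra U (G × G) :=
  mapDomainAlgHom U U (MonoidHom.inl G G)

/-- The second inclusion on exponents. -/
def cJ₂ (U G : Type u) [CommRing U] [CommGroup G] : MonoidAlgebra U G →ₐ[U] MonoidAlgebra U (G × G) :=
  mapDomainAlgHom U U (MonoidHom.inr G G)

/-- The sum of the coefficients. -/
def cE (U G : Type u) [CommRing U] [CommGroup G] : MonoidAlgebra U G →ₐ[U] U :=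
  MonoidAlgebra.lift U U G 1

theorem cD_single (a : G) (c : U) : cD U G (single a c) = single (a, a) c := by simp [cD]

theorem cJ₁_single (a : G) (c : U) : cJ₁ U G (single a c) = single (a, 1) c := by simp [cJ₁]

theorem cJ₂_single (a : G) (c : U) : cJ₂ U G (single a c) = single (1, a) c := by simp [cJ₂]

theorem cE_single (a : G) (c : U) : cE U G (single a c) = c := by simp [cE, MonoidAlgebra.lift_single]

/-- The coefficients form complete orthogonal idempotents. -/
def IsCOI (z : MonoidAlgebra U G) : Prop :=
  cD U G z = cJ₁ U G z * cJ₂ U G z ∧ cE U G z = 1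

theorem IsCOI.single_one (a : G) : IsCOI (single a (1 : U)) :=
  ⟨by rw [cD_single, cJ₁_single, cJ₂_single, single_mul_single, one_mul, Prod.mk_mul_mk, mul_one, one_mul],
    cE_single a 1⟩

theorem IsCOI.mul {z w : MonoidAlgebra U G} (hz : IsCOI z) (hw : IsCOI w) : IsCOI (z * w) :=
  ⟨by rw [map_mul, map_mul, map_mul, hz.1, hw.1, mul_mul_mul_comm],
    by rw [map_mul, hz.2, hw.2, one_mul]⟩

theorem coeff_mul_cJ [DecidableEq G] (u v : MonoidAlgebra U G) (a b : G) :
    (cJ₁ U G u * cJ₂ U G v).coeff (a, b) = u.coeff a * v.coeff b := by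
  induction u using MonoidAlgebra.induction_linear with
  | zero => simp
  | add p q hp hq => simp [add_mul, hp, hq]
  | single x c =>
    induction v using MonoidAlgebra.induction_linear with
    | zero => simp
    | add p q hp hq => simp [mul_add, hp, hq]
    | single y d =>
      rw [cJ₁_single, cJ₂_single, single_mul_single, Prod.mk_mul_mk, mul_one, one_mul]
      simp only [coeff_single, Finsupp.single_apply, Prod.mk.injEq]
      split_ifs <;> simp_all

theorem coeff_cD [DecidableEq G] (u : MonoidAlgebra U G) (a b : G) :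
    (cD U G u).coeff (a, b) = if a = b then u.coeff a else 0 := by
  induction u using MonoidAlgebra.induction_linear with
  | zero => simp
  | add p q hp hq => simp [hp, hq]; split_ifs <;> simp
  | single x c =>
    rw [cD_single]
    simp only [coeff_single, Finsupp.single_apply, Prod.mk.injEq]
    split_ifs with h1 h2 h3 h4 <;> first | rfl | grind

theorem cE_eq_sum (z : MonoidAlgebra U G) : cE U G z = z.coeff.sum fun _ c => c := by
  induction z using MonoidAlgebra.induction_linear with
  | zero => simp
  | add p q hp hq => rw [map_add, hp, hq, coeff_add, Finsupp.sum_add_index'] <;> simp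
  | single x c => simp [cE_single]

theorem isCOI_iff [DecidableEq G] {z : MonoidAlgebra U G} :
    IsCOI z ↔ (∀ a b, z.coeff a * z.coeff b = if a = b then z.coeff a else 0) ∧
      (z.coeff.sum fun _ c => c) = 1 := by
  rw [IsCOI, cE_eq_sum]
  refine and_congr_left fun _ => ⟨fun h a b => ?_, fun h => ?_⟩
  · rw [← coeff_mul_cJ, ← h, coeff_cD]
  · refine MonoidAlgebra.coeff_injective (Finsupp.ext fun p => ?_)
    rw [coeff_cD, coeff_mul_cJ, h]

theorem IsCOI.idem {z : MonoidAlgebra U G} (hz : IsCOI z) (a : G) : IsIdempotentElem (z.coeff a) := by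
  classical
  simpa [IsIdempotentElem] using (isCOI_iff.1 hz).1 a a

theorem IsCOI.complete {z : MonoidAlgebra U G} (hz : IsCOI z) :
    CompleteOrthogonalIdempotents fun m : z.coeff.support => z.coeff m := by
  classical
  refine ⟨⟨fun m => hz.idem m, fun a b hab => ?_⟩, ?_⟩
  · show z.coeff a * z.coeff b = 0
    rw [(isCOI_iff.1 hz).1, if_neg fun h => hab (Subtype.ext h)]
  · rw [← (isCOI_iff.1 hz).2, Finsupp.sum, Finset.sum_coe_sort z.coeff.support fun m => z.coeff m]

theorem IsCOI.map {z : MonoidAlgebra U G} (hz : IsCOI z) (s : U →ₐ[R] V) : IsCOI (mapAlgHom G s z) := by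
  have h1 : ∀ u, cD V G (mapAlgHom G s u) = mapAlgHom (G × G) s (cD U G u) := fun u => by
    induction u using MonoidAlgebra.induction_linear with
    | zero => simp
    | add p q hp hq => simp only [map_add, hp, hq]
    | single x c => simp [cD_single]
  have h2 : ∀ u, cJ₁ V G (mapAlgHom G s u) = mapAlgHom (G × G) s (cJ₁ U G u) := fun u => by
    induction u using MonoidAlgebra.induction_linear with
    | zero => simp
    | add p q hp hq => simp only [map_add, hp, hq]
    | single x c => simp [cJ₁_single]
  have h3 : ∀ u, cJ₂ V G (mapAlgHom G s u) = mapAlgHom (G × G) s (cJ₂ U G u) := fun u => by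
    induction u using MonoidAlgebra.induction_linear with
    | zero => simp
    | add p q hp hq => simp only [map_add, hp, hq]
    | single x c => simp [cJ₂_single]
  have h4 : ∀ u, cE V G (mapAlgHom G s u) = s (cE U G u) := fun u => by
    induction u using MonoidAlgebra.induction_linear with
    | zero => simp
    | add p q hp hq => simp only [map_add, hp, hq]
    | single x c => simp [cE_single]
  exact ⟨by rw [h1, h2, h3, hz.1, map_mul], by rw [h4, hz.2, map_one]⟩

theorem IsCOI.lin {z : MonoidAlgebra U G} (hz : IsCOI z) (s : U →ₐ[R] V) (g : G →* MonoidAlgebra V H)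
    (hg : ∀ a, IsCOI (g a)) : IsCOI (HopfDesc.lin s g z) := by
  let g₂ : G × G →* MonoidAlgebra V (H × H) :=
    (((cJ₁ V H).toMonoidHom.comp g).comp (MonoidHom.fst G G)) * (((cJ₂ V H).toMonoidHom.comp g).comp (MonoidHom.snd G G))
  have hs : ∀ x : G × G, g₂ x = cJ₁ V H (g x.1) * cJ₂ V H (g x.2) := fun x => rfl
  have h1 : ∀ u, cD V H (HopfDesc.lin s g u) = HopfDesc.lin s g₂ (cD U G u) := fun u => by
    induction u using MonoidAlgebra.induction_linear with
    | zero => simp
    | add p q hp hq => simp only [map_add, hp, hq]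
    | single x c =>
      rw [cD_single, lin_single, lin_single, map_mul, cD_single, hs, (hg x).1]
      rfl
  have h2 : ∀ u, cJ₁ V H (HopfDesc.lin s g u) = HopfDesc.lin s g₂ (cJ₁ U G u) := fun u => by
    induction u using MonoidAlgebra.induction_linear with
    | zero => simp
    | add p q hp hq => simp only [map_add, hp, hq]
    | single x c =>
      rw [cJ₁_single, lin_single, lin_single, map_mul, cJ₁_single, hs, map_one, map_one, mul_one]
      rfl
  have h3 : ∀ u, cJ₂ V H (HopfDesc.lin s g u) = HopfDesc.lin s g₂ (cJ₂ U G u) := fun u => by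
    induction u using MonoidAlgebra.induction_linear with
    | zero => simp
    | add p q hp hq => simp only [map_add, hp, hq]
    | single x c =>
      rw [cJ₂_single, lin_single, lin_single, map_mul, cJ₂_single, hs, map_one, map_one, one_mul]
      rfl
  have h4 : ∀ u, cE V H (HopfDesc.lin s g u) = s (cE U G u) := fun u => by
    induction u using MonoidAlgebra.induction_linear with
    | zero => simp
    | add p q hp hq => simp only [map_add, hp, hq]
    | single x c => rw [lin_single, map_mul, cE_single, cE_single, (hg x).2, mul_one]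
  exact ⟨by rw [h1, h2, h3, hz.1, map_mul], by rw [h4, hz.2, map_one]⟩

theorem IsCOI.eq_of_map_eq (q : U →ₐ[R] V) (hq : Set.InjOn q {e | IsIdempotentElem e}) {z w : MonoidAlgebra U G}
    (hz : IsCOI z) (hw : IsCOI w) (h : mapAlgHom G q z = mapAlgHom G q w) : z = w :=
  MonoidAlgebra.coeff_injective (Finsupp.ext fun a => hq (hz.idem a) (hw.idem a) (by
    rw [← coeff_mapAlgHom, ← coeff_mapAlgHom, h]))

theorem IsCOI.exists_lift (q : U →ₐ[R] V) (hq : Set.BijOn q {e | IsIdempotentElem e} {e | IsIdempotentElem e})
    {w : MonoidAlgebra V G} (hw : IsCOI w) : ∃ z : MonoidAlgebra U G, IsCOI z ∧ mapAlgHom G q z = w := by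
  classical
  choose c hc hcq using fun a => hq.surjOn (hw.idem a)
  have h0 : ∀ a, w.coeff a = 0 → c a = 0 := fun a ha =>
    hq.injOn (hc a) IsIdempotentElem.zero (by rw [hcq, ha, map_zero])
  let z : MonoidAlgebra U G := MonoidAlgebra.ofCoeff
    (Finsupp.onFinset w.coeff.support c fun a ha => Finsupp.mem_support_iff.2 fun h => ha (h0 a h))
  have hzc : ∀ a, z.coeff a = c a := fun a => by simp [z]
  have hzm : mapAlgHom G q z = w := MonoidAlgebra.coeff_injective (Finsupp.ext fun a => by
    rw [coeff_mapAlgHom, hzc, hcq])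
  have hortho : ∀ a b, a ≠ b → c a * c b = 0 := fun a b hab =>
    hq.injOn (IsIdempotentElem.mul_of_commute (Commute.all _ _) (hc a) (hc b)) IsIdempotentElem.zero
      (by rw [map_mul, hcq, hcq, map_zero, (isCOI_iff.1 hw).1, if_neg hab])
  refine ⟨z, isCOI_iff.2 ⟨fun a b => ?_, ?_⟩, hzm⟩
  · rw [hzc, hzc]
    split_ifs with hab
    · subst hab; exact hc a
    · exact hortho a b hab
  · refine hq.injOn ?_ IsIdempotentElem.one ?_
    · simp only [Set.mem_ofPred_eq, Finsupp.sum, hzc]
      exact (⟨fun a => hc a, fun a b hab => hortho a b hab⟩ : OrthogonalIdempotents c).isIdempotentElem_sum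
    · rw [map_one, ← cE_eq_sum, ← (isCOI_iff.1 hw).2, ← cE_eq_sum, ← hzm]
      generalize z = x
      induction x using MonoidAlgebra.induction_linear with
      | zero => simp
      | add p q hp hq => simp only [map_add, hp, hq]
      | single x c => simp [cE_single]

end Groth.Agent.HopfDesc
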