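import Groth.Agent.HopfDescLib.Transition
import Mathlib.RingTheory.Flat.FaithfullyFlat.Algebra

set_option autoImplicit false

/-!
The reduction of a lifted Hopf algebra is the given one.
-/

noncomputable section

universe u

open scoped TensorProduct
open MonoidAlgebra
open Groth.Agent.TorusField

namespace Groth.Agent.HopfDesc

variable {R : Type u} [CommRing R] {I : Ideal R} {U U' : Type u} [CommRing U] [Algebra R U] [CommRing U'] [Algebra R U']
  {V V' : Type u} [CommRing V] [Algebra R V] [Algebra (R ⧸ I) V] [IsScalarTower R (R ⧸ I) V]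
  [CommRing V'] [Algebra R V'] [Algebra (R ⧸ I) V'] [IsScalarTower R (R ⧸ I) V']

variable (I U V) in
/-- Tensoring with an algebra over the reduction. -/
def δ : U ⊗[R] V ≃ₐ[R] B I U ⊗[R ⧸ I] V :=
  (((Algebra.TensorProduct.comm (R ⧸ I) (B I U) V).restrictScalars R).trans
    (((Algebra.TensorProduct.cancelBaseChange R (R ⧸ I) V V U).restrictScalars R).trans
      (Algebra.TensorProduct.comm R V U))).symm

theorem δ_tmul (u : U) (v : V) : δ I U V (u ⊗ₜ v) = red I U u ⊗ₜ v := by
  rw [δ, AlgEquiv.symm_apply_eq]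
  simp [red]

theorem δ_map (g : V →ₐ[R ⧸ I] V') (z : U ⊗[R] V) :
    δ I U V' (Algebra.TensorProduct.map (AlgHom.id U U) (g.restrictScalars R) z) =
      Algebra.TensorProduct.map (AlgHom.id (B I U) (B I U)) g (δ I U V z) := by
  induction z using TensorProduct.induction_on with
  | zero => simp
  | add p q hp hq => simp only [map_add, hp, hq]
  | tmul u v => simp [δ_tmul]

theorem δ_mp (f : U →ₐ[R] U') (z : U ⊗[R] V) :
    δ I U' V (mp V f z) = Algebra.TensorProduct.map (bar I f) (AlgHom.id (R ⧸ I) V) (δ I U V z) := by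
  induction z using TensorProduct.induction_on with
  | zero => simp
  | add p q hp hq => simp only [map_add, hp, hq]
  | tmul u v => simp [δ_tmul, mp_tmul, red, bar]

variable {A₀ : Type u} [CommRing A₀] [HopfAlgebra (R ⧸ I) A₀] [Algebra R A₀] [IsScalarTower R (R ⧸ I) A₀]
  {ι : Type u} [Fintype ι] [DecidableEq ι] {T : ι → Type u} [∀ i, CommRing (T i)] [∀ i, Algebra R (T i)]
  [∀ i, Module.Flat R (T i)] [Module.FaithfullyFlat R (Π i, T i)] {M : ι → Type u} [∀ i, AddCommGroup (M i)]
  (E : ∀ i, Split (R ⧸ I) A₀ (M i) (B I (T i))) (d : Datum R T M)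

theorem exists_reduction_hom (hd : ∀ i j n, Θ I E i Algebra.TensorProduct.includeLeft (d.g i j n) =
    push (bar I Algebra.TensorProduct.includeRight) ((E j).e n.toAdd)) :
    ∃ h : d.F →ₐ[R] A₀, ∀ i m,
      δ I (T i) A₀ (Algebra.TensorProduct.map (AlgHom.id (T i) (T i)) h (d.atlas.e i m)) = (E i).e m := by
  let χ : ∀ i, d.F →ₐ[R] T i ⊗[R] A₀ := fun i =>
    ((δ I (T i) A₀).symm.toAlgHom.comp (Θ I E i (AlgHom.id R (T i)))).comp (d.π i)
  let ψ : ∀ i, T i ⊗[R] d.F →ₐ[T i] T i ⊗[R] A₀ := fun i =>
    Algebra.TensorProduct.lift (Algebra.ofId (T i) _) (χ i) fun _ _ => Commute.all _ _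
  have hψ : ∀ i t (x : d.F), ψ i (t ⊗ₜ x) = t • χ i x := fun i t x => by
    simp [ψ, Algebra.smul_def]
  have key : ∀ i j (x : d.F), mp A₀ (Algebra.TensorProduct.includeLeft : T i →ₐ[R] T i ⊗[R] T j) (χ i x) =
      mp A₀ Algebra.TensorProduct.includeRight (χ j x) := by
    intro i j x
    apply (δ I (T i ⊗[R] T j) A₀).injective
    rw [δ_mp, δ_mp]
    simp only [χ, AlgHom.comp_apply, AlgEquiv.coe_toAlgHom, AlgEquiv.apply_symm_apply]
    change push (bar I _) (Θ I E i (AlgHom.id R (T i)) ((x : Π k, P T M k) i)) =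
      push (bar I _) (Θ I E j (AlgHom.id R (T j)) ((x : Π k, P T M k) j))
    rw [push_Θ, push_Θ, AlgHom.comp_id, AlgHom.comp_id]
    show Θ I E i _ (incl R T M i j ((x : Π k, P T M k) i)) = _
    rw [← d.mem_F.1 x.2 i j]
    exact Θ_lin (U := T i ⊗[R] T j) (V := T j) E i j Algebra.TensorProduct.includeLeft Algebra.TensorProduct.includeRight
      Algebra.TensorProduct.includeRight (d.g i j) (hd i j) _
  obtain ⟨h, hh⟩ := d.atlas.exists_descend ψ fun i j n => by
    generalize d.atlas.e j n = w
    induction w using TensorProduct.induction_on with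
    | zero => simp
    | add p q hp hq => simp only [map_add, hp, hq]
    | tmul t x =>
      rw [mp_tmul, hψ, mp_smul, ← key i j x, show (Algebra.TensorProduct.includeRight t : T i ⊗[R] T j) ⊗ₜ[R] x =
        (Algebra.TensorProduct.includeRight t : T i ⊗[R] T j) •
          mp d.F (Algebra.TensorProduct.includeLeft : T i →ₐ[R] T i ⊗[R] T j) (1 ⊗ₜ x) by
          rw [mp_tmul, map_one, TensorProduct.smul_tmul', smul_eq_mul, mul_one], map_smul, ext_mp, hψ, one_smul]
  refine ⟨h, fun i m => ?_⟩
  have hz : ∀ z, δ I (T i) A₀ (ψ i z) = Θ I E i (AlgHom.id R (T i)) (d.Λ i z) := by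
    intro z
    induction z using TensorProduct.induction_on with
    | zero => simp
    | add p q hp hq => simp only [map_add, hp, hq]
    | tmul t x =>
      rw [hψ, Datum.Λ_tmul, map_mul, Θ_single, toAdd_one, (E i).e_zero, map_one, Algebra.smul_def, map_mul]
      simp only [χ, AlgHom.comp_apply, AlgEquiv.coe_toAlgHom, AlgEquiv.apply_symm_apply]
      congr 1
      rw [Algebra.TensorProduct.algebraMap_apply, δ_tmul]
      rw [show red I (T i) t • (1 : B I (T i) ⊗[R ⧸ I] A₀) = red I (T i) t ⊗ₜ 1 by
        rw [Algebra.TensorProduct.one_def (A := B I (T i)), TensorProduct.smul_tmul', smul_eq_mul, mul_one]]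
      simp
  rw [hh, hz]
  have he : d.Λ i (d.atlas.e i m) = single (Multiplicative.ofAdd m) 1 := by
    show d.equiv i ((((MonoidAlgebra.basis (Multiplicative (M i)) (T i)).map
      (d.equiv i).symm.toLinearEquiv).reindex Multiplicative.toAdd) m) = _
    rw [Module.Basis.reindex_apply, Module.Basis.map_apply, MonoidAlgebra.basis_apply]
    exact (d.equiv i).apply_symm_apply _
  rw [he, Θ_single, map_one, one_smul, push_bar_id, toAdd_ofAdd]

theorem comp_comul {h : d.F →ₐ[R] A₀} (hh : ∀ i m,
    δ I (T i) A₀ (Algebra.TensorProduct.map (AlgHom.id (T i) (T i)) h (d.atlas.e i m)) = (E i).e m) :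
    ((Bialgebra.comulAlgHom (R ⧸ I) A₀).restrictScalars R).comp h =
      (Algebra.TensorProduct.lift
        (((Algebra.TensorProduct.includeLeft : A₀ →ₐ[R ⧸ I] A₀ ⊗[R ⧸ I] A₀).restrictScalars R).comp h)
        (((Algebra.TensorProduct.includeRight : A₀ →ₐ[R ⧸ I] A₀ ⊗[R ⧸ I] A₀).restrictScalars R).comp h)
        fun _ _ => Commute.all _ _).comp d.atlas.comul := by
  let 𝔄 := d.atlas
  refine 𝔄.hom_ext fun i m => (δ I (T i) (A₀ ⊗[R ⧸ I] A₀)).injective ?_
  refine Eq.trans ?_ (congrArg _ (map_id_comp (S := T i) _ 𝔄.comul (𝔄.e i m)).symm)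
  rw [map_id_comp]
  rw [δ_map, hh, 𝔄.comul_e, map_mul, map_mul]
  show D (R ⧸ I) A₀ (B I (T i)) ((E i).e m) = _
  rw [((E i).gl m).1, K₁, K₂, ← map_id_comp, ← map_id_comp, Algebra.TensorProduct.lift_comp_includeLeft,
    Algebra.TensorProduct.lift_comp_includeRight', map_id_comp, map_id_comp, δ_map, δ_map, hh]
  rfl

theorem comp_counit {h : d.F →ₐ[R] A₀} (hh : ∀ i m,
    δ I (T i) A₀ (Algebra.TensorProduct.map (AlgHom.id (T i) (T i)) h (d.atlas.e i m)) = (E i).e m) :
    ((Bialgebra.counitAlgHom (R ⧸ I) A₀).restrictScalars R).comp h =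
      (Algebra.ofId R (R ⧸ I)).comp d.atlas.counit := by
  let 𝔄 := d.atlas
  refine 𝔄.hom_ext fun i m => (δ I (T i) (R ⧸ I)).injective ?_
  rw [map_id_comp, map_id_comp, δ_map, hh, 𝔄.counit_e, map_one, map_one]
  have e : ∀ z : B I (T i) ⊗[R ⧸ I] A₀, Algebra.TensorProduct.map (AlgHom.id (B I (T i)) (B I (T i)))
      (Bialgebra.counitAlgHom (R ⧸ I) A₀) z = ev1 (R ⧸ I) A₀ (B I (T i)) z ⊗ₜ 1 := by
    intro z
    induction z using TensorProduct.induction_on with
    | zero => simp
    | add p q hp hq => simp only [map_add, TensorProduct.add_tmul, hp, hq]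
    | tmul s a =>
      rw [Algebra.TensorProduct.map_tmul, AlgHom.id_apply, Bialgebra.counitAlgHom_apply,
        show (ev1 (R ⧸ I) A₀ (B I (T i))) (s ⊗ₜ a) = CoalgebraStruct.counit (R := R ⧸ I) a • s by
          induction s using TensorProduct.induction_on with
          | zero => simp
          | add p q hp hq => simp only [TensorProduct.add_tmul, map_add, smul_add, hp, hq]
          | tmul r u => simp [ev1, TensorProduct.smul_tmul', mul_comm],
        TensorProduct.smul_tmul, smul_eq_mul, mul_one]
  rw [e, ((E i).gl m).2]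
  rfl

theorem repr_reduction {F : Type u} [CommRing F] [Algebra R F] (𝔄 : Atlas R F T M) {h : F →ₐ[R] A₀} (hh : ∀ i m,
    δ I (T i) A₀ (Algebra.TensorProduct.map (AlgHom.id (T i) (T i)) h (𝔄.e i m)) = (E i).e m) (i : ι)
    (x : T i ⊗[R] F) (a : M i) :
    (E i).e.repr (δ I (T i) A₀ (Algebra.TensorProduct.map (AlgHom.id (T i) (T i)) h x)) a =
      red I (T i) ((𝔄.e i).repr x a) := by
  let L : ∀ i, T i ⊗[R] F →ₐ[T i] T i ⊗[R] A₀ := fun i => Algebra.TensorProduct.map (AlgHom.id (T i) (T i)) h
  show (E i).e.repr (δ I (T i) A₀ (L i x)) a = red I (T i) ((𝔄.e i).repr x a)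
  have hx : x ∈ Submodule.span (T i) (Set.range (𝔄.e i)) := (𝔄.e i).span_eq.symm ▸ Submodule.mem_top
  induction hx using Submodule.span_induction with
  | mem w hw =>
    obtain ⟨b, rfl⟩ := hw
    classical
    rw [hh, Module.Basis.repr_self]
    show _ = red I (T i) ((𝔄.e i).repr (𝔄.e i b) a)
    rw [Module.Basis.repr_self, Finsupp.single_apply, Finsupp.single_apply]
    split_ifs <;> simp
  | zero => simp
  | add p q _ _ hp hq => simp [hp, hq]
  | smul c p _ hp =>
    have e : δ I (T i) A₀ (L i (c • p)) = red I (T i) c • δ I (T i) A₀ (L i p) := by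
      rw [map_smul]
      generalize L i p = y
      induction y using TensorProduct.induction_on with
      | zero => simp
      | add u v hu hv => simp only [smul_add, map_add, hu, hv]
      | tmul s v => rw [TensorProduct.smul_tmul', smul_eq_mul, δ_tmul, δ_tmul, TensorProduct.smul_tmul', smul_eq_mul, map_mul]
    rw [e, map_smul, map_smul, Finsupp.smul_apply, Finsupp.smul_apply, smul_eq_mul, smul_eq_mul, map_mul, hp]

theorem surjective_reduction {F : Type u} [CommRing F] [Algebra R F] (𝔄 : Atlas R F T M) {h : F →ₐ[R] A₀} (hh : ∀ i m,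
    δ I (T i) A₀ (Algebra.TensorProduct.map (AlgHom.id (T i) (T i)) h (𝔄.e i m)) = (E i).e m) :
    Function.Surjective h := by
  let L : ∀ i, T i ⊗[R] F →ₐ[T i] T i ⊗[R] A₀ := fun i => Algebra.TensorProduct.map (AlgHom.id (T i) (T i)) h
  have hrepr := repr_reduction E 𝔄 hh
  refine (Module.FaithfullyFlat.lTensor_surjective_iff_surjective R (Π i, T i) h.toLinearMap).1 ?_
  have hL : ∀ i, Function.Surjective (L i) := by
    intro i y
    obtain ⟨t, ht⟩ : ∃ t, δ I (T i) A₀ y = t := ⟨_, rfl⟩
    suffices ∀ t, ∃ x, δ I (T i) A₀ (L i x) = t by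
      obtain ⟨x, hx⟩ := this t
      exact ⟨x, (δ I (T i) A₀).injective (hx.trans ht.symm)⟩
    intro t
    have ht' : t ∈ Submodule.span (B I (T i)) (Set.range (E i).e) := (E i).e.span_eq.symm ▸ Submodule.mem_top
    induction ht' using Submodule.span_induction with
    | mem w hw => obtain ⟨b, rfl⟩ := hw; exact ⟨𝔄.e i b, hh i b⟩
    | zero => exact ⟨0, by simp⟩
    | add p q _ _ hp hq =>
      obtain ⟨p', rfl⟩ := hp; obtain ⟨q', rfl⟩ := hq
      exact ⟨p' + q', by simp⟩
    | smul c p _ hp =>
      obtain ⟨p', rfl⟩ := hp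
      obtain ⟨c', rfl⟩ : ∃ c', red I (T i) c' = c :=
        Algebra.TensorProduct.includeRight_surjective _ Ideal.Quotient.mk_surjective c
      refine ⟨c' • p', (E i).e.ext_elem fun a => ?_⟩
      rw [hrepr, map_smul, map_smul, Finsupp.smul_apply, Finsupp.smul_apply, hrepr, smul_eq_mul, smul_eq_mul, map_mul]
  intro y
  have e : ∀ v : (Π i, T i) ⊗[R] A₀, ∑ i, (LinearMap.single R T i).rTensor A₀
      (mp A₀ (Pi.evalAlgHom R T i) v) = v := by
    intro v
    induction v using TensorProduct.induction_on with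
    | zero => simp
    | add p q hp hq => simp only [map_add, Finset.sum_add_distrib, hp, hq]
    | tmul s a =>
      simp only [mp_tmul, LinearMap.rTensor_tmul, ← TensorProduct.sum_tmul,
        Groth.Agent.DiagHopf.sum_single_proj]
  choose x hx using fun i => hL i (mp A₀ (Pi.evalAlgHom R T i) y)
  refine ⟨∑ i, (LinearMap.single R T i).rTensor F (x i), ?_⟩
  rw [map_sum]
  conv_rhs => rw [← e y]
  refine Finset.sum_congr rfl fun i _ => ?_
  rw [← hx i]
  generalize x i = w
  induction w using TensorProduct.induction_on with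
  | zero => simp
  | add p q hp hq => simp only [map_add, hp, hq]
  | tmul s a => simp [L]

theorem ker_reduction {F : Type u} [CommRing F] [Algebra R F] (𝔄 : Atlas R F T M) {h : F →ₐ[R] A₀} (hh : ∀ i m,
    δ I (T i) A₀ (Algebra.TensorProduct.map (AlgHom.id (T i) (T i)) h (𝔄.e i m)) = (E i).e m) :
    ∀ x, h x = 0 → x ∈ I • (⊤ : Submodule R F) := by
  let L : ∀ i, T i ⊗[R] F →ₐ[T i] T i ⊗[R] A₀ := fun i => Algebra.TensorProduct.map (AlgHom.id (T i) (T i)) h
  have hrepr := repr_reduction E 𝔄 hh
  have hex : Function.Exact (I • (⊤ : Submodule R F)).subtype h.toLinearMap := by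
    refine Module.FaithfullyFlat.lTensor_reflects_exact R (Π i, T i) (I • (⊤ : Submodule R F)).subtype h.toLinearMap
      fun w => ⟨fun hw => ?_, ?_⟩
    · have hsub : I • (⊤ : Submodule R ((Π i, T i) ⊗[R] F)) ≤
          LinearMap.range ((I • (⊤ : Submodule R F)).subtype.lTensor (Π i, T i)) := by
        refine Submodule.smul_le.2 fun r hr v _ => ?_
        induction v using TensorProduct.induction_on with
        | zero => simp
        | add p q hp hq => rw [smul_add]; exact add_mem (hp trivial) (hq trivial)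
        | tmul s a =>
          exact ⟨s ⊗ₜ ⟨r • a, Submodule.smul_mem_smul hr trivial⟩, by simp [TensorProduct.tmul_smul]⟩
      refine hsub ?_
      have hwi : ∀ i, mp F (Pi.evalAlgHom R T i) w ∈ I • (⊤ : Submodule R (T i ⊗[R] F)) := by
        intro i
        set x := mp F (Pi.evalAlgHom R T i) w with hxdef
        have hLx : L i x = 0 := by
          have e : ∀ v : (Π i, T i) ⊗[R] F, L i (mp F (Pi.evalAlgHom R T i) v) =
              mp A₀ (Pi.evalAlgHom R T i) (h.toLinearMap.lTensor (Π i, T i) v) := by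
            intro v
            induction v using TensorProduct.induction_on with
            | zero => simp
            | add p q hp hq => simp only [map_add, hp, hq]
            | tmul s a => simp [L, mp_tmul]
          rw [hxdef, e, hw, map_zero]
        rw [← (𝔄.e i).linearCombination_repr x, Finsupp.linearCombination_apply]
        refine Submodule.sum_mem _ fun a _ => ?_
        have hmem : (𝔄.e i).repr x a ∈ (I.map (algebraMap R (T i))).restrictScalars R := by
          have h0 : red I (T i) ((𝔄.e i).repr x a) = 0 := by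
            rw [← hrepr, hLx]; simp
          rw [Submodule.restrictScalars_mem, ← Ideal.Quotient.eq_zero_iff_mem]
          apply (Algebra.TensorProduct.quotIdealMapEquivTensorQuot (T i) I).injective
          rw [map_zero]
          refine ((Algebra.TensorProduct.quotIdealMapEquivTensorQuot (T i) I).commutes _).trans ?_
          show (𝔄.e i).repr x a ⊗ₜ[R] (1 : R ⧸ I) = 0
          apply (Algebra.TensorProduct.comm R (T i) (R ⧸ I)).injective
          rw [map_zero]
          exact h0
        rw [← Ideal.smul_top_eq_map] at hmem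
        refine Submodule.smul_induction_on (p := fun c => c • 𝔄.e i a ∈ I • (⊤ : Submodule R (T i ⊗[R] F)))
          hmem (fun r hr s _ => ?_) fun p q hp hq => ?_
        · rw [smul_assoc]
          exact Submodule.smul_mem_smul hr trivial
        · rw [add_smul]; exact add_mem hp hq
      have e : ∀ v : (Π i, T i) ⊗[R] F, ∑ i, (LinearMap.single R T i).rTensor F
          (mp F (Pi.evalAlgHom R T i) v) = v := by
        intro v
        induction v using TensorProduct.induction_on with
        | zero => simp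
        | add p q hp hq => simp only [map_add, Finset.sum_add_distrib, hp, hq]
        | tmul s a =>
          simp only [mp_tmul, LinearMap.rTensor_tmul, ← TensorProduct.sum_tmul,
            Groth.Agent.DiagHopf.sum_single_proj]
      rw [← e w]
      refine Submodule.sum_mem _ fun i _ => ?_
      have hm := Submodule.mem_map_of_mem (f := (LinearMap.single R T i).rTensor F) (hwi i)
      rw [Submodule.map_smul''] at hm
      exact Submodule.smul_mono le_rfl le_top hm
    · rintro ⟨v, rfl⟩
      rw [← LinearMap.comp_apply, ← LinearMap.lTensor_comp]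
      suffices h.toLinearMap ∘ₗ (I • (⊤ : Submodule R F)).subtype = 0 by simp [this]
      ext ⟨x, hx⟩
      show h x = 0
      refine Submodule.smul_induction_on (p := fun x => h x = 0) hx (fun r hr y _ => ?_) fun p q hp hq => ?_
      · rw [Algebra.smul_def, map_mul, AlgHom.commutes, IsScalarTower.algebraMap_apply R (R ⧸ I) A₀,
          show algebraMap R (R ⧸ I) r = 0 from Ideal.Quotient.eq_zero_iff_mem.2 hr, map_zero, zero_mul]
      · rw [map_add, hp, hq, add_zero]
  intro x hx
  obtain ⟨y, rfl⟩ := (hex x).1 hx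
  exact y.2

theorem exists_reduction_equiv (hd : ∀ i j n, Θ I E i Algebra.TensorProduct.includeLeft (d.g i j n) =
    push (bar I Algebra.TensorProduct.includeRight) ((E j).e n.toAdd)) :
    letI := d.atlas.hopf
    Nonempty (((R ⧸ I) ⊗[R] d.F) ≃ₐc[R ⧸ I] A₀) := by
  letI := d.atlas.hopf
  obtain ⟨h, hh⟩ := exists_reduction_hom E d hd
  let 𝔄 := d.atlas
  have hcomul := comp_comul E d hh
  have hcounit := comp_counit E d hh
  have hsurj := surjective_reduction E d.atlas hh
  have hIker := ker_reduction E d.atlas hh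
  let α : (R ⧸ I) ⊗[R] d.F →ₐ[R ⧸ I] A₀ :=
    Algebra.TensorProduct.lift (Algebra.ofId (R ⧸ I) A₀) h fun _ _ => Commute.all _ _
  have hα1 : ∀ x, α (1 ⊗ₜ x) = h x := fun x => by simp [α]
  have hbij : Function.Bijective α := by
    refine ⟨(injective_iff_map_eq_zero α).2 fun z hz => ?_, fun a => ?_⟩
    · obtain ⟨x, rfl⟩ : ∃ x, (1 : R ⧸ I) ⊗ₜ[R] x = z :=
        Algebra.TensorProduct.includeRight_surjective d.F Ideal.Quotient.mk_surjective z
      rw [hα1] at hz
      refine Submodule.smul_induction_on (p := fun x => (1 : R ⧸ I) ⊗ₜ[R] x = 0) (hIker x hz)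
        (fun r hr y _ => ?_) fun p q hp hq => ?_
      · rw [TensorProduct.tmul_smul, TensorProduct.smul_tmul', Algebra.smul_def, mul_one,
          show algebraMap R (R ⧸ I) r = 0 from Ideal.Quotient.eq_zero_iff_mem.2 hr, TensorProduct.zero_tmul]
      · rw [TensorProduct.tmul_add, hp, hq, add_zero]
    · obtain ⟨x, rfl⟩ := hsurj a
      exact ⟨1 ⊗ₜ x, hα1 x⟩
  refine ⟨BialgEquiv.ofAlgEquiv (AlgEquiv.ofBijective α hbij) ?_ ?_⟩
  · refine Algebra.TensorProduct.ext (Subsingleton.elim _ _) (AlgHom.ext fun x => ?_)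
    have hx := DFunLike.congr_fun hcounit x
    simp only [AlgHom.comp_apply, AlgHom.coe_restrictScalars', Bialgebra.counitAlgHom_apply] at hx
    simp only [AlgHom.comp_apply, AlgHom.coe_restrictScalars', Algebra.TensorProduct.includeRight_apply,
      AlgEquiv.coe_toAlgHom, AlgEquiv.coe_ofBijective, hα1, Bialgebra.counitAlgHom_apply, hx,
      TensorProduct.counit_tmul]
    simp [Algebra.smul_def]
    rfl
  · refine Algebra.TensorProduct.ext (Subsingleton.elim _ _) (AlgHom.ext fun x => ?_)
    have hx := DFunLike.congr_fun hcomul x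
    simp only [AlgHom.comp_apply, AlgHom.coe_restrictScalars', Bialgebra.comulAlgHom_apply] at hx
    simp only [AlgHom.comp_apply, AlgHom.coe_restrictScalars', Algebra.TensorProduct.includeRight_apply,
      AlgEquiv.coe_toAlgHom, AlgEquiv.coe_ofBijective, hα1, Bialgebra.comulAlgHom_apply, hx,
      TensorProduct.comul_tmul, CommSemiring.comul_apply]
    show _ = _
    rw [show CoalgebraStruct.comul (R := R) x = 𝔄.comul x from rfl]
    generalize 𝔄.comul x = w
    induction w using TensorProduct.induction_on with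
    | zero => simp
    | add p q hp hq => simp only [TensorProduct.tmul_add, map_add, hp, hq]
    | tmul p q =>
      simp [TensorProduct.AlgebraTensorModule.tensorTensorTensorComm_tmul, hα1, Algebra.TensorProduct.tmul_mul_tmul]

end Groth.Agent.HopfDesc
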