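import Groth.Agent.HopfDescLib.Hopf
import Mathlib.RingTheory.TensorProduct.MonoidAlgebra
import Mathlib.Algebra.Algebra.Subalgebra.Lattice

set_option autoImplicit false

/-!
Algebras glued from group algebras by idempotent transition data.
-/

noncomputable section

universe u

open scoped TensorProduct
open MonoidAlgebra

namespace Groth.Agent.HopfDesc

variable (R : Type u) [CommRing R] {ι : Type u} (T : ι → Type u) [∀ i, CommRing (T i)]
  [∀ i, Algebra R (T i)] (M : ι → Type u) [∀ i, AddCommGroup (M i)]

/-- The coordinate ring of the `i`-th piece. -/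
abbrev P (i : ι) : Type u := MonoidAlgebra (T i) (Multiplicative (M i))

/-- The coordinate ring of an overlap, in the coordinates of the first piece. -/
abbrev X (i j : ι) : Type u := MonoidAlgebra (T i ⊗[R] T j) (Multiplicative (M i))

/-- The coordinate ring of a triple overlap, in the coordinates of the first piece. -/
abbrev X₃ (i j k : ι) : Type u := MonoidAlgebra ((T i ⊗[R] T j) ⊗[R] T k) (Multiplicative (M i))

/-- The first inclusion into a triple product. -/
def p₁₂ (i j k : ι) : T i ⊗[R] T j →ₐ[R] (T i ⊗[R] T j) ⊗[R] T k := Algebra.TensorProduct.includeLeft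

/-- The second inclusion into a triple product. -/
def p₂₃ (i j k : ι) : T j ⊗[R] T k →ₐ[R] (T i ⊗[R] T j) ⊗[R] T k :=
  Algebra.TensorProduct.map Algebra.TensorProduct.includeRight (AlgHom.id R (T k))

/-- The outer inclusion into a triple product. -/
def p₁₃ (i j k : ι) : T i ⊗[R] T k →ₐ[R] (T i ⊗[R] T j) ⊗[R] T k :=
  Algebra.TensorProduct.map Algebra.TensorProduct.includeLeft (AlgHom.id R (T k))

variable {R T M}

/-- Extend a homomorphism on exponents by scalars. -/
def lin {U V : Type u} [CommRing U] [Algebra R U] [CommRing V] [Algebra R V] {G H : Type u} [CommGroup G] [CommGroup H]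
    (s : U →ₐ[R] V) (g : G →* MonoidAlgebra V H) : MonoidAlgebra U G →ₐ[R] MonoidAlgebra V H :=
  liftNCAlgHom ((singleOneAlgHom (R := R)).comp s) g fun _ _ => Commute.all _ _

theorem lin_single {U V : Type u} [CommRing U] [Algebra R U] [CommRing V] [Algebra R V] {G H : Type u} [CommGroup G]
    [CommGroup H] (s : U →ₐ[R] V) (g : G →* MonoidAlgebra V H) (m : G) (u : U) :
    lin s g (single m u) = single 1 (s u) * g m := by
  simp [lin]

variable (R T M)

/-- Transition data. -/
structure Datum where
  g : ∀ i j, Multiplicative (M j) →* X R T M i j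
  idem : ∀ i j n, CompleteOrthogonalIdempotents fun m : (g i j n).coeff.support => (g i j n).coeff m
  unit : ∀ i n, mapAlgHom (Multiplicative (M i)) (Algebra.TensorProduct.lmul' R (S := T i)) (g i i n) = single n 1
  cocycle : ∀ i j k n,
    lin (p₂₃ R T i j k) ((mapAlgHom (Multiplicative (M i)) (p₁₂ R T i j k) : X R T M i j →* X₃ R T M i j k).comp (g i j))
      (g j k n) = mapAlgHom (Multiplicative (M i)) (p₁₃ R T i j k) (g i k n)

variable {R T M}

/-- The transition map. -/
def Datum.φ (d : Datum R T M) (i j : ι) : P T M j →ₐ[R] X R T M i j :=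
  lin Algebra.TensorProduct.includeRight (d.g i j)

variable (R T M) in
/-- The inclusion of a piece into an overlap. -/
def incl (i j : ι) : P T M i →ₐ[R] X R T M i j :=
  mapAlgHom (Multiplicative (M i)) Algebra.TensorProduct.includeLeft

/-- The glued algebra. -/
def Datum.F (d : Datum R T M) : Subalgebra R (Π i, P T M i) :=
  ⨅ i, ⨅ j, AlgHom.equalizer ((d.φ i j).comp (Pi.evalAlgHom R (P T M) j))
    ((incl R T M i j).comp (Pi.evalAlgHom R (P T M) i))

theorem Datum.mem_F (d : Datum R T M) {z : Π i, P T M i} :
    z ∈ d.F ↔ ∀ i j, d.φ i j (z j) = incl R T M i j (z i) := by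
  simp [Datum.F, Algebra.mem_iInf]

/-- The projection to a piece. -/
def Datum.π (d : Datum R T M) (k : ι) : d.F →ₐ[R] P T M k := (Pi.evalAlgHom R (P T M) k).comp d.F.val

/-- The comparison over a piece. -/
def Datum.Λ (d : Datum R T M) (k : ι) : T k ⊗[R] d.F →ₐ[T k] P T M k :=
  Algebra.TensorProduct.lift (Algebra.ofId (T k) _) (d.π k) fun _ _ => Commute.all _ _

/-- Moving scalars inside a group algebra. -/
def swapEquiv (A B : Type u) [CommRing A] [Algebra R A] [CommRing B] [Algebra R B] (G : Type u) [CommGroup G] :
    B ⊗[R] MonoidAlgebra A G ≃ₐ[R] MonoidAlgebra (A ⊗[R] B) G :=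
  (Algebra.TensorProduct.comm R B (MonoidAlgebra A G)).trans (lTensorAlgEquiv R A B)

theorem swapEquiv_symm_single (A B : Type u) [CommRing A] [Algebra R A] [CommRing B] [Algebra R B] (G : Type u)
    [CommGroup G] (m : G) (a : A) (b : B) :
    (swapEquiv (R := R) A B G).symm (single m (a ⊗ₜ b)) = b ⊗ₜ single m a := by
  simp [swapEquiv]

theorem swapEquiv_tmul (A B : Type u) [CommRing A] [Algebra R A] [CommRing B] [Algebra R B] (G : Type u) [CommGroup G]
    (b : B) (z : MonoidAlgebra A G) :
    swapEquiv (R := R) A B G (b ⊗ₜ z) =
      single 1 ((1 : A) ⊗ₜ[R] b) * mapAlgHom G (Algebra.TensorProduct.includeLeft : A →ₐ[R] A ⊗[R] B) z := by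
  induction z using MonoidAlgebra.induction_linear with
  | zero => simp
  | add p q hp hq => simp only [TensorProduct.tmul_add, map_add, mul_add, hp, hq]
  | single m a =>
    rw [← AlgEquiv.eq_symm_apply, mapAlgHom_single, single_mul_single, one_mul]
    simp [swapEquiv_symm_single]

theorem Datum.Λ_tmul (d : Datum R T M) (k : ι) (s : T k) (f : d.F) :
    d.Λ k (s ⊗ₜ f) = single 1 s * (f : Π i, P T M i) k := by
  simp [Datum.Λ, Datum.π, MonoidAlgebra.coe_algebraMap]

theorem Datum.swap_π (d : Datum R T M) (j k : ι) (w : T k ⊗[R] d.F) :
    swapEquiv (T j) (T k) (Multiplicative (M j)) (Algebra.TensorProduct.map (AlgHom.id R (T k)) (d.π j) w) =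
      d.φ j k (d.Λ k w) := by
  induction w using TensorProduct.induction_on with
  | zero => simp
  | add a b ha hb => simp only [map_add, ha, hb]
  | tmul s f =>
    rw [Algebra.TensorProduct.map_tmul, AlgHom.id_apply, swapEquiv_tmul, Λ_tmul, map_mul, Datum.φ, lin_single,
      map_one, mul_one]
    show _ = single 1 ((1 : T j) ⊗ₜ[R] s) * d.φ j k ((f : Π i, P T M i) k)
    rw [d.mem_F.1 f.2 j k]
    rfl

theorem Datum.bijective_Λ [Fintype ι] [∀ i, Module.Flat R (T i)] (d : Datum R T M) (k : ι) :
    Function.Bijective (d.Λ k) := by
  classical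
  have joint : ∀ {w : T k ⊗[R] (Π i, P T M i)},
      (∀ j, Algebra.TensorProduct.map (AlgHom.id R (T k)) (Pi.evalAlgHom R (P T M) j) w = 0) → w = 0 := by
    intro w hw
    have e : ∀ v : T k ⊗[R] (Π i, P T M i), ∑ j, (LinearMap.single R (P T M) j).lTensor (T k)
        (Algebra.TensorProduct.map (AlgHom.id R (T k)) (Pi.evalAlgHom R (P T M) j) v) = v := by
      intro v
      induction v using TensorProduct.induction_on with
      | zero => simp
      | add a b ha hb => simp only [map_add, Finset.sum_add_distrib, ha, hb]
      | tmul s z =>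
        simp only [Algebra.TensorProduct.map_tmul, AlgHom.id_apply, LinearMap.lTensor_tmul, ← TensorProduct.tmul_sum,
          Groth.Agent.DiagHopf.sum_single_proj]
    rw [← e w]
    simp [hw]
  have hcomp : ∀ (w : T k ⊗[R] d.F) j, Algebra.TensorProduct.map (AlgHom.id R (T k)) (Pi.evalAlgHom R (P T M) j)
      (Algebra.TensorProduct.map (AlgHom.id R (T k)) d.F.val w) =
      Algebra.TensorProduct.map (AlgHom.id R (T k)) (d.π j) w := fun w j => by
    induction w using TensorProduct.induction_on with
    | zero => simp
    | add a b ha hb => simp only [map_add, ha, hb]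
    | tmul s f => simp [Datum.π]
  constructor
  · rw [injective_iff_map_eq_zero]
    intro w hw
    refine Module.Flat.lTensor_preserves_injective_linearMap (M := T k) d.F.val.toLinearMap Subtype.val_injective
      (a₂ := 0) ?_
    rw [map_zero]
    refine joint fun j => (hcomp w j).trans ((swapEquiv (T j) (T k) (Multiplicative (M j))).injective ?_)
    rw [swap_π, hw, map_zero, map_zero]
  · suffices ∀ n, ∃ w, d.Λ k w = single n 1 by
      intro y
      induction y using MonoidAlgebra.induction_linear with
      | zero => exact ⟨0, map_zero _⟩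
      | add p q hp hq =>
        obtain ⟨p', rfl⟩ := hp
        obtain ⟨q', rfl⟩ := hq
        exact ⟨p' + q', map_add _ _ _⟩
      | single n c =>
        obtain ⟨w, hw⟩ := this n
        exact ⟨c • w, by rw [map_smul, hw, smul_single, smul_eq_mul, mul_one]⟩
    intro n
    let δ : (Π i, P T M i) →ₗ[R] Π q : ι × ι, X R T M q.1 q.2 :=
      LinearMap.pi fun q => (d.φ q.1 q.2).toLinearMap ∘ₗ LinearMap.proj q.2 -
        (incl R T M q.1 q.2).toLinearMap ∘ₗ LinearMap.proj q.1
    have hex : Function.Exact d.F.val.toLinearMap δ := fun z => by
      constructor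
      · intro hz
        exact ⟨⟨z, d.mem_F.2 fun i j => sub_eq_zero.1 (congrFun hz (i, j))⟩, rfl⟩
      · rintro ⟨f, rfl⟩
        funext q
        exact sub_eq_zero.2 (d.mem_F.1 f.2 q.1 q.2)
    let v : ∀ j, T k ⊗[R] P T M j := fun j => (swapEquiv (T j) (T k) (Multiplicative (M j))).symm (d.g j k n)
    let z : T k ⊗[R] (Π i, P T M i) := ∑ j, (LinearMap.single R (P T M) j).lTensor (T k) (v j)
    have hz : ∀ j, (LinearMap.proj j).lTensor (T k) z = v j := by
      intro j
      simp only [z, map_sum, ← LinearMap.comp_apply, ← LinearMap.lTensor_comp]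
      rw [Finset.sum_eq_single j]
      · rw [LinearMap.proj_comp_single_same, LinearMap.lTensor_id, LinearMap.id_apply]
      · intro i _ hij
        rw [LinearMap.proj_comp_single_ne R (P T M) j i hij.symm, LinearMap.lTensor_zero, LinearMap.zero_apply]
      · simp
    have hker : δ.lTensor (T k) z = 0 := by
      have e : ∀ v : T k ⊗[R] (Π q : ι × ι, X R T M q.1 q.2), ∑ q, (LinearMap.single R
          (fun q : ι × ι => X R T M q.1 q.2) q).lTensor (T k) ((LinearMap.proj q).lTensor (T k) v) = v := by
        intro v
        induction v using TensorProduct.induction_on with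
        | zero => simp
        | add a b ha hb => simp only [map_add, Finset.sum_add_distrib, ha, hb]
        | tmul s x =>
          simp only [LinearMap.lTensor_tmul, ← TensorProduct.tmul_sum]
          congr 1
          funext q
          simp [Finset.sum_apply]
      rw [← e (δ.lTensor (T k) z)]
      refine Finset.sum_eq_zero fun q _ => ?_
      rw [← LinearMap.comp_apply ((LinearMap.proj q).lTensor (T k)), ← LinearMap.lTensor_comp]
      rw [show LinearMap.proj q ∘ₗ δ = (d.φ q.1 q.2).toLinearMap ∘ₗ LinearMap.proj q.2 -
        (incl R T M q.1 q.2).toLinearMap ∘ₗ LinearMap.proj q.1 from LinearMap.proj_pi _ _, LinearMap.lTensor_sub,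
        LinearMap.sub_apply, LinearMap.lTensor_comp, LinearMap.lTensor_comp, LinearMap.comp_apply,
        LinearMap.comp_apply, hz, hz]
      suffices (d.φ q.1 q.2).toLinearMap.lTensor (T k) (v q.2) =
          (incl R T M q.1 q.2).toLinearMap.lTensor (T k) (v q.1) by rw [this, sub_self, map_zero]
      obtain ⟨i, j⟩ := q
      let Ξ := swapEquiv (R := R) (T i ⊗[R] T j) (T k) (Multiplicative (M i))
      apply Ξ.injective
      have e1 : ∀ u : T k ⊗[R] P T M j, Ξ ((d.φ i j).toLinearMap.lTensor (T k) u) =
          lin (p₂₃ R T i j k) ((mapAlgHom (Multiplicative (M i)) (p₁₂ R T i j k) : X R T M i j →* X₃ R T M i j k).comp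
            (d.g i j)) (swapEquiv (T j) (T k) (Multiplicative (M j)) u) := by
        intro u
        induction u using TensorProduct.induction_on with
        | zero => simp
        | add a b ha hb => simp only [map_add, ha, hb]
        | tmul s x =>
          induction x using MonoidAlgebra.induction_linear with
          | zero => simp
          | add a b ha hb => simp only [TensorProduct.tmul_add, map_add, ha, hb]
          | single m c =>
            show swapEquiv (R := R) (T i ⊗[R] T j) (T k) (Multiplicative (M i)) (s ⊗ₜ d.φ i j (single m c)) = _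
            rw [Datum.φ, lin_single, swapEquiv_tmul, swapEquiv_tmul, map_mul, mapAlgHom_single, mapAlgHom_single,
              single_mul_single, one_mul, lin_single, ← mul_assoc, single_mul_single, one_mul]
            congr 1
            simp [p₂₃]
      have e2 : ∀ u : T k ⊗[R] P T M i, Ξ ((incl R T M i j).toLinearMap.lTensor (T k) u) =
          mapAlgHom (Multiplicative (M i)) (p₁₃ R T i j k) (swapEquiv (T i) (T k) (Multiplicative (M i)) u) := by
        intro u
        induction u using TensorProduct.induction_on with
        | zero => simp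
        | add a b ha hb => simp only [map_add, ha, hb]
        | tmul s x =>
          induction x using MonoidAlgebra.induction_linear with
          | zero => simp
          | add a b ha hb => simp only [TensorProduct.tmul_add, map_add, ha, hb]
          | single m c =>
            show swapEquiv (R := R) (T i ⊗[R] T j) (T k) (Multiplicative (M i)) (s ⊗ₜ incl R T M i j (single m c)) = _
            rw [incl, mapAlgHom_single, swapEquiv_tmul, swapEquiv_tmul, mapAlgHom_single, mapAlgHom_single,
              single_mul_single, single_mul_single, one_mul, mapAlgHom_single]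
            simp [p₁₃]
      rw [e1, e2]
      simp only [v, AlgEquiv.apply_symm_apply]
      exact d.cocycle i j k n
    obtain ⟨w, hw⟩ := (Module.Flat.lTensor_exact (T k) hex z).1 hker
    refine ⟨w, ?_⟩
    have e3 : ∀ u : T k ⊗[R] d.F, d.Λ k u = mapAlgHom (Multiplicative (M k)) (Algebra.TensorProduct.lmul' R (S := T k))
        (swapEquiv (T k) (T k) (Multiplicative (M k))
          ((LinearMap.proj k).lTensor (T k) (d.F.val.toLinearMap.lTensor (T k) u))) := by
      intro u
      induction u using TensorProduct.induction_on with
      | zero => simp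
      | add a b ha hb => simp only [map_add, ha, hb]
      | tmul s f =>
        simp only [LinearMap.lTensor_tmul, AlgHom.toLinearMap_apply, LinearMap.proj_apply, Subalgebra.coe_val,
          swapEquiv_tmul, map_mul, mapAlgHom_single, Λ_tmul, Algebra.TensorProduct.lmul'_apply_tmul, one_mul]
        congr 1
        generalize (f : Π i, P T M i) k = x
        induction x using MonoidAlgebra.induction_linear with
        | zero => simp
        | add a b ha hb => simp only [map_add, ← ha, ← hb]
        | single m c => simp
    rw [e3, hw, hz]
    simp only [v, AlgEquiv.apply_symm_apply]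
    exact d.unit k n

/-- The comparison isomorphism over a piece. -/
def Datum.equiv [Fintype ι] [∀ i, Module.Flat R (T i)] (d : Datum R T M) (k : ι) :
    T k ⊗[R] d.F ≃ₐ[T k] P T M k :=
  AlgEquiv.ofBijective (d.Λ k) (d.bijective_Λ k)

theorem Datum.equiv_apply [Fintype ι] [∀ i, Module.Flat R (T i)] (d : Datum R T M) (k : ι) (w : T k ⊗[R] d.F) :
    d.equiv k w = d.Λ k w := rfl

/-- The atlas of a glued algebra. -/
def Datum.atlas [Fintype ι] [∀ i, Module.Flat R (T i)] (d : Datum R T M) : Atlas R d.F T M where
  e i := ((MonoidAlgebra.basis (Multiplicative (M i)) (T i)).map (d.equiv i).symm.toLinearEquiv).reindex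
    Multiplicative.toAdd
  e_zero i := by
    simp [MonoidAlgebra.basis_apply]
    rfl
  e_add i a b := by
    simp [MonoidAlgebra.basis_apply, ← map_mul, single_mul_single]
  rel i j n := by
    classical
    let G := Multiplicative (M i)
    refine ⟨(d.g i j (Multiplicative.ofAdd n)).coeff.support.map Multiplicative.toAdd.toEmbedding,
      fun m => (d.g i j (Multiplicative.ofAdd n)).coeff (Multiplicative.ofAdd (m : M i)), ?_, ?_⟩
    · let σ : ↥((d.g i j (Multiplicative.ofAdd n)).coeff.support.map Multiplicative.toAdd.toEmbedding) ≃
          ↥((d.g i j (Multiplicative.ofAdd n)).coeff.support) :=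
        { toFun := fun m => ⟨Multiplicative.ofAdd (m : M i), by
            obtain ⟨x, hx, h⟩ := Finset.mem_map.1 m.2
            rw [← h]
            exact hx⟩
          invFun := fun m => ⟨Multiplicative.toAdd (m : Multiplicative (M i)), Finset.mem_map_of_mem _ m.2⟩
          left_inv := fun m => rfl
          right_inv := fun m => rfl }
      exact (CompleteOrthogonalIdempotents.equiv σ).2 (d.idem i j (Multiplicative.ofAdd n))
    · let Γ : (T i ⊗[R] T j) ⊗[R] d.F →ₐ[R] X R T M i j :=
        Algebra.TensorProduct.lift (singleOneAlgHom (R := R)) ((incl R T M i j).comp (d.π i)) fun _ _ =>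
          Commute.all _ _
      have hΓinj : Function.Injective Γ := by
        let E : (T i ⊗[R] T j) ⊗[R] d.F ≃ₐ[R] X R T M i j :=
          ((Algebra.TensorProduct.congr (Algebra.TensorProduct.comm R (T i) (T j)) AlgEquiv.refl).trans
            ((Algebra.TensorProduct.assoc R R R (T j) (T i) d.F).trans
              ((Algebra.TensorProduct.congr AlgEquiv.refl ((d.equiv i).restrictScalars R)).trans
                (swapEquiv (T i) (T j) (Multiplicative (M i))))))
        have e : ∀ z, Γ z = E z := by
          intro z
          induction z using TensorProduct.induction_on with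
          | zero => simp
          | add a b ha hb => simp only [map_add, ha, hb]
          | tmul w f =>
            induction w using TensorProduct.induction_on with
            | zero => simp
            | add a b ha hb => simp only [TensorProduct.add_tmul, map_add, ha, hb]
            | tmul a b =>
              show _ = swapEquiv (T i) (T j) (Multiplicative (M i)) (b ⊗ₜ[R] d.Λ i (a ⊗ₜ f))
              rw [swapEquiv_tmul, Λ_tmul, map_mul, mapAlgHom_single, ← mul_assoc, single_mul_single, one_mul]
              simp [Γ, Datum.π, incl]
        rw [funext e]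
        exact E.injective
      have hΓL : ∀ w, Γ (mp d.F Algebra.TensorProduct.includeLeft w) = incl R T M i j (d.Λ i w) := fun w => by
        induction w using TensorProduct.induction_on with
        | zero => simp
        | add a b ha hb => simp only [map_add, ha, hb]
        | tmul s f =>
          rw [mp_tmul, Λ_tmul, map_mul]
          simp [Γ, Datum.π, incl]
      have hΓR : ∀ w, Γ (mp d.F Algebra.TensorProduct.includeRight w) = d.φ i j (d.Λ j w) := fun w => by
        induction w using TensorProduct.induction_on with
        | zero => simp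
        | add a b ha hb => simp only [map_add, ha, hb]
        | tmul s f =>
          rw [mp_tmul, Λ_tmul, map_mul, Datum.φ, lin_single, map_one, mul_one, ← Datum.φ, d.mem_F.1 f.2 i j]
          simp [Γ, Datum.π]
      have he : ∀ k (m : M k), d.Λ k ((((MonoidAlgebra.basis (Multiplicative (M k)) (T k)).map
          (d.equiv k).symm.toLinearEquiv).reindex Multiplicative.toAdd) m) = single (Multiplicative.ofAdd m) 1 := by
        intro k m
        rw [Module.Basis.reindex_apply, Module.Basis.map_apply, MonoidAlgebra.basis_apply]
        exact (d.equiv k).apply_symm_apply _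
      refine hΓinj ?_
      rw [hΓR, he, Datum.φ, lin_single, map_one, show (single (1 : Multiplicative (M i)) (1 : T i ⊗[R] T j)) = 1 from rfl,
        one_mul, map_sum]
      have hc : ∀ (c : T i ⊗[R] T j) (w : (T i ⊗[R] T j) ⊗[R] d.F), Γ (c • w) = single 1 c * Γ w := fun c w => by
        induction w using TensorProduct.induction_on with
        | zero => simp
        | add a b ha hb => simp only [smul_add, map_add, mul_add, ha, hb]
        | tmul a f =>
          rw [TensorProduct.smul_tmul', smul_eq_mul]
          simp only [Γ, Algebra.TensorProduct.lift_tmul, map_mul]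
          simp [← mul_assoc, single_mul_single]
      simp only [hc, hΓL, he, incl, mapAlgHom_single, map_one, single_mul_single, one_mul, mul_one]
      conv_lhs => rw [← MonoidAlgebra.sum_coeff_single (d.g i j (Multiplicative.ofAdd n))]
      rw [Finsupp.sum, ← Finset.sum_coe_sort]
      refine (Finset.sum_bij' (fun m _ => (⟨Multiplicative.toAdd (m : Multiplicative (M i)),
          Finset.mem_map_of_mem _ m.2⟩ : ↥((d.g i j (Multiplicative.ofAdd n)).coeff.support.map
            Multiplicative.toAdd.toEmbedding)))
        (fun m _ => ⟨Multiplicative.ofAdd (m : M i), by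
          obtain ⟨x, hx, h⟩ := Finset.mem_map.1 m.2
          rw [← h]
          exact hx⟩) (fun _ _ => Finset.mem_univ _) (fun _ _ => Finset.mem_univ _) (fun _ _ => rfl) (fun _ _ => rfl)
        fun _ _ => ?_)
      rfl

end Groth.Agent.HopfDesc
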