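import Groth.Agent.DiagHopfLib.Family
import Groth.Agent.TorusFieldLib.Split
import Mathlib.RingTheory.HopfAlgebra.Basic
import Mathlib.RingTheory.Idempotents

set_option autoImplicit false

/-!
Hopf algebra structures glued from local group-like bases.
-/

noncomputable section

universe u

open scoped TensorProduct
open Groth.Agent.DiagHopf

namespace Groth.Agent.HopfDesc

variable {R : Type u} [CommRing R]

/-- Change of scalars. -/
def mp {T T' : Type u} [CommRing T] [CommRing T'] [Algebra R T] [Algebra R T'] (V : Type u) [CommRing V] [Algebra R V]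
    (f : T →ₐ[R] T') : T ⊗[R] V →ₐ[R] T' ⊗[R] V :=
  Algebra.TensorProduct.map f (AlgHom.id R V)

theorem mp_tmul {T T' : Type u} [CommRing T] [CommRing T'] [Algebra R T] [Algebra R T'] {V : Type u} [CommRing V]
    [Algebra R V] (f : T →ₐ[R] T') (t : T) (v : V) : mp V f (t ⊗ₜ v) = f t ⊗ₜ v := by
  simp [mp]

theorem mp_smul {T T' : Type u} [CommRing T] [CommRing T'] [Algebra R T] [Algebra R T'] {V : Type u} [CommRing V]
    [Algebra R V] (f : T →ₐ[R] T') (s : T) (x : T ⊗[R] V) : mp V f (s • x) = f s • mp V f x := by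
  rw [Algebra.smul_def, Algebra.smul_def, map_mul]
  congr 1

/-- Base change of a map along a homomorphism of scalars. -/
def ext {T T' : Type u} [CommRing T] [CommRing T'] [Algebra R T] [Algebra R T'] {F V : Type u} [CommRing F]
    [Algebra R F] [CommRing V] [Algebra R V] (f : T →ₐ[R] T') (ψ : T ⊗[R] F →ₐ[T] T ⊗[R] V) :
    T' ⊗[R] F →ₐ[T'] T' ⊗[R] V :=
  Algebra.TensorProduct.lift (Algebra.ofId T' _)
    ((mp V f).comp ((ψ.restrictScalars R).comp Algebra.TensorProduct.includeRight)) fun _ _ => Commute.all _ _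

theorem ext_mp {T T' : Type u} [CommRing T] [CommRing T'] [Algebra R T] [Algebra R T'] {F V : Type u} [CommRing F]
    [Algebra R F] [CommRing V] [Algebra R V] (f : T →ₐ[R] T') (ψ : T ⊗[R] F →ₐ[T] T ⊗[R] V) (z : T ⊗[R] F) :
    ext f ψ (mp F f z) = mp V f (ψ z) := by
  induction z using TensorProduct.induction_on with
  | zero => simp
  | add a b ha hb => simp only [map_add, ha, hb]
  | tmul t x =>
    rw [mp_tmul, show (t ⊗ₜ[R] x) = t • ((1 : T) ⊗ₜ[R] x) by rw [TensorProduct.smul_tmul', smul_eq_mul, mul_one],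
      map_smul, mp_smul]
    simp [ext, Algebra.smul_def]

theorem ext_comp {T T' : Type u} [CommRing T] [CommRing T'] [Algebra R T] [Algebra R T'] {F V : Type u} [CommRing F]
    [Algebra R F] [CommRing V] [Algebra R V] (f : T →ₐ[R] T') (h : F →ₐ[R] V) (z : T ⊗[R] F) :
    Algebra.TensorProduct.map (AlgHom.id T' T') h (mp F f z) =
      mp V f (Algebra.TensorProduct.map (AlgHom.id T T) h z) := by
  induction z using TensorProduct.induction_on with
  | zero => simp
  | add a b ha hb => simp only [map_add, ha, hb]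
  | tmul t x => simp [mp_tmul]

variable (R) (F : Type u) [CommRing F] [Algebra R F] {ι : Type u} (T : ι → Type u) [∀ i, CommRing (T i)]
  [∀ i, Algebra R (T i)] (M : ι → Type u) [∀ i, AddCommGroup (M i)]

/-- Local bases which multiply as groups and transform into each other by idempotents. -/
structure Atlas where
  e : ∀ i, Module.Basis (M i) (T i) (T i ⊗[R] F)
  e_zero : ∀ i, e i 0 = 1
  e_add : ∀ i a b, e i (a + b) = e i a * e i b
  rel : ∀ i j n, ∃ (s : Finset (M i)) (c : s → T i ⊗[R] T j), CompleteOrthogonalIdempotents c ∧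
    mp F (Algebra.TensorProduct.includeRight : T j →ₐ[R] T i ⊗[R] T j) (e j n) =
      ∑ m : s, c m • mp F (Algebra.TensorProduct.includeLeft : T i →ₐ[R] T i ⊗[R] T j) (e i (m : M i))

variable {R F T M} [Fintype ι] [DecidableEq ι] [Module.FaithfullyFlat R (Π i, T i)]

theorem ext_elem {V : Type u} [CommRing V] [Algebra R V] {x y : V}
    (h : ∀ i, (1 : T i) ⊗ₜ[R] x = 1 ⊗ₜ y) : x = y :=
  Module.FaithfullyFlat.tensorProduct_mk_injective (A := R) (B := Π i, T i) V
    (eq_of_push_pi (x := (1 : Π i, T i) ⊗ₜ[R] x) (y := 1 ⊗ₜ y) fun i => by simpa using h i)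

/-- Algebra maps agreeing on every local basis are equal. -/
theorem Atlas.hom_ext (𝔄 : Atlas R F T M) {V : Type u} [CommRing V] [Algebra R V] {g h : F →ₐ[R] V}
    (H : ∀ i m, Algebra.TensorProduct.map (AlgHom.id (T i) (T i)) g (𝔄.e i m) =
      Algebra.TensorProduct.map (AlgHom.id (T i) (T i)) h (𝔄.e i m)) : g = h := by
  refine AlgHom.ext fun x => ext_elem (R := R) (T := T) fun i => ?_
  have e : Algebra.TensorProduct.map (AlgHom.id (T i) (T i)) g = Algebra.TensorProduct.map (AlgHom.id (T i) (T i)) h :=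
    AlgHom.toLinearMap_injective ((𝔄.e i).ext (H i))
  simpa using DFunLike.congr_fun e ((1 : T i) ⊗ₜ[R] x)

/-- Compatible local algebra maps descend. -/
theorem Atlas.exists_descend (𝔄 : Atlas R F T M) {V : Type u} [CommRing V] [Algebra R V]
    (ψ : ∀ i, T i ⊗[R] F →ₐ[T i] T i ⊗[R] V)
    (H : ∀ i j n, ext (Algebra.TensorProduct.includeLeft : T i →ₐ[R] T i ⊗[R] T j) (ψ i)
      (mp F Algebra.TensorProduct.includeRight (𝔄.e j n)) =
        mp V Algebra.TensorProduct.includeRight (ψ j (𝔄.e j n))) :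
    ∃ h : F →ₐ[R] V, ∀ i z, Algebra.TensorProduct.map (AlgHom.id (T i) (T i)) h z = ψ i z := by
  classical
  have key : ∀ i j (x : F), mp V (Algebra.TensorProduct.includeLeft : T i →ₐ[R] T i ⊗[R] T j) (ψ i (1 ⊗ₜ x)) =
      mp V Algebra.TensorProduct.includeRight (ψ j (1 ⊗ₜ x)) := by
    intro i j x
    have e : ∀ z : T j ⊗[R] F, ext (Algebra.TensorProduct.includeLeft : T i →ₐ[R] T i ⊗[R] T j) (ψ i)
        (mp F Algebra.TensorProduct.includeRight z) = mp V Algebra.TensorProduct.includeRight (ψ j z) := by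
      intro z
      have hz : z ∈ Submodule.span (T j) (Set.range (𝔄.e j)) := (𝔄.e j).span_eq.symm ▸ Submodule.mem_top
      induction hz using Submodule.span_induction with
      | mem w hw => obtain ⟨n, rfl⟩ := hw; exact H i j n
      | zero => simp
      | add a b _ _ ha hb => simp only [map_add, ha, hb]
      | smul c a _ ha => rw [mp_smul, map_smul, map_smul, mp_smul, ha]
    have h1 := e ((1 : T j) ⊗ₜ x)
    rw [mp_tmul, map_one, ← map_one (Algebra.TensorProduct.includeLeft : T i →ₐ[R] T i ⊗[R] T j), ← mp_tmul,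
      ext_mp] at h1
    exact h1
  let z : F → (Π i, T i) ⊗[R] V := fun x => ∑ i, (LinearMap.single R T i).rTensor V (ψ i (1 ⊗ₜ x))
  have hz : ∀ j x, mp V (Pi.evalAlgHom R T j) (z x) = ψ j (1 ⊗ₜ x) := by
    intro j x
    have h : ∀ i (w : T i ⊗[R] V), mp V (Pi.evalAlgHom R T j) ((LinearMap.single R T i).rTensor V w) =
        ((Pi.evalAlgHom R T j).toLinearMap ∘ₗ LinearMap.single R T i).rTensor V w := by
      intro i w
      rw [LinearMap.rTensor_comp]
      rfl
    simp only [z, map_sum, h]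
    rw [Finset.sum_eq_single j]
    · rw [show (Pi.evalAlgHom R T j).toLinearMap ∘ₗ LinearMap.single R T j = LinearMap.id from
        LinearMap.ext fun x => by simp, LinearMap.rTensor_id, LinearMap.id_apply]
    · intro i _ hij
      rw [show (Pi.evalAlgHom R T j).toLinearMap ∘ₗ LinearMap.single R T i = 0 from
        LinearMap.ext fun x => by simp [Ne.symm hij], LinearMap.rTensor_zero, LinearMap.zero_apply]
    · simp
  have hface : ∀ x, ∃ v : V, (1 : Π i, T i) ⊗ₜ[R] v = z x := by
    intro x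
    refine exists_of_coface_eq ?_
    refine sub_eq_zero.1 (eq_zero_of_rTensor_eq_zero
      (fun q : ι × ι => (Algebra.TensorProduct.map (Pi.evalAlgHom R T q.1) (Pi.evalAlgHom R T q.2)).toLinearMap)
      (fun q => TensorProduct.map (LinearMap.single R T q.1) (LinearMap.single R T q.2)) ?_ fun q => ?_)
    · intro w
      induction w using TensorProduct.induction_on with
      | zero => simp
      | add a b ha hb => simp only [map_add, Finset.sum_add_distrib, ha, hb]
      | tmul a b =>
        rw [Fintype.sum_prod_type]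
        simp only [AlgHom.toLinearMap_apply, Algebra.TensorProduct.map_tmul, TensorProduct.map_tmul]
        rw [Finset.sum_congr rfl fun i _ => (TensorProduct.tmul_sum (LinearMap.single R T i (Pi.evalAlgHom R T i a))
            Finset.univ (fun j => LinearMap.single R T j (Pi.evalAlgHom R T j b))).symm,
          ← TensorProduct.sum_tmul, sum_single_proj, sum_single_proj]
    · rw [map_sub, sub_eq_zero]
      let p := Algebra.TensorProduct.map (Pi.evalAlgHom R T q.1) (Pi.evalAlgHom R T q.2)
      show mp V p (mp V Algebra.TensorProduct.includeLeft (z x)) =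
        mp V p (mp V Algebra.TensorProduct.includeRight (z x))
      have e1 : ∀ w : (Π i, T i) ⊗[R] V, mp V p (mp V Algebra.TensorProduct.includeLeft w) =
          mp V Algebra.TensorProduct.includeLeft (mp V (Pi.evalAlgHom R T q.1) w) := by
        intro w
        induction w using TensorProduct.induction_on with
        | zero => simp
        | add a b ha hb => simp only [map_add, ha, hb]
        | tmul a b => simp [mp_tmul, p]
      have e2 : ∀ w : (Π i, T i) ⊗[R] V, mp V p (mp V Algebra.TensorProduct.includeRight w) =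
          mp V Algebra.TensorProduct.includeRight (mp V (Pi.evalAlgHom R T q.2) w) := by
        intro w
        induction w using TensorProduct.induction_on with
        | zero => simp
        | add a b ha hb => simp only [map_add, ha, hb]
        | tmul a b => simp [mp_tmul, p]
      rw [e1, e2, hz, hz]
      exact key q.1 q.2 x
  choose v hv using hface
  have hv' : ∀ i x, (1 : T i) ⊗ₜ[R] v x = ψ i (1 ⊗ₜ x) := fun i x => by
    rw [← hz i x, ← hv x, mp_tmul, map_one]
  let h : F →ₐ[R] V :=
    { toFun := v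
      map_one' := ext_elem (R := R) (T := T) fun i => by
        rw [hv', ← Algebra.TensorProduct.one_def, map_one]; rfl
      map_mul' := fun x y => ext_elem (R := R) (T := T) fun i => by
        rw [hv', show (1 : T i) ⊗ₜ[R] (x * y) = (1 ⊗ₜ x) * (1 ⊗ₜ y) by simp, map_mul, ← hv', ← hv',
          Algebra.TensorProduct.tmul_mul_tmul, one_mul]
      map_zero' := ext_elem (R := R) (T := T) fun i => by rw [hv', TensorProduct.tmul_zero, map_zero, TensorProduct.tmul_zero]
      map_add' := fun x y => ext_elem (R := R) (T := T) fun i => by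
        rw [hv', TensorProduct.tmul_add, map_add, ← hv', ← hv', TensorProduct.tmul_add]
      commutes' := fun r => ext_elem (R := R) (T := T) fun i => by
        rw [hv', Algebra.algebraMap_eq_smul_one, Algebra.algebraMap_eq_smul_one, TensorProduct.tmul_smul,
          TensorProduct.tmul_smul, ← Algebra.TensorProduct.one_def, ← Algebra.TensorProduct.one_def,
          AlgHom.map_smul_of_tower, map_one] }
  refine ⟨h, fun i z => ?_⟩
  induction z using TensorProduct.induction_on with
  | zero => simp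
  | add a b ha hb => simp only [map_add, ha, hb]
  | tmul t x =>
    rw [Algebra.TensorProduct.map_tmul, AlgHom.id_apply,
      show t ⊗ₜ[R] x = t • ((1 : T i) ⊗ₜ[R] x) by rw [TensorProduct.smul_tmul', smul_eq_mul, mul_one], map_smul,
      ← hv', TensorProduct.smul_tmul', smul_eq_mul, mul_one]
    rfl

omit [Fintype ι] [DecidableEq ι] [Module.FaithfullyFlat R (Π i, T i)] in
/-- The algebra map prescribed on a local basis. -/
theorem Atlas.exists_local (𝔄 : Atlas R F T M) (i : ι) {V : Type u} [CommRing V] [Algebra R V]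
    (f : M i → T i ⊗[R] V) (h0 : f 0 = 1) (hadd : ∀ a b, f (a + b) = f a * f b) :
    ∃ ψ : T i ⊗[R] F →ₐ[T i] T i ⊗[R] V, ∀ m, ψ (𝔄.e i m) = f m := by
  let ℓ := (𝔄.e i).constr (T i) f
  have hℓ : ∀ m, ℓ (𝔄.e i m) = f m := fun m => (𝔄.e i).constr_basis _ _ _
  have hmul : ∀ x y, ℓ (x * y) = ℓ x * ℓ y := by
    have : ((LinearMap.mul (T i) (T i ⊗[R] F)).compr₂ ℓ) =
        (LinearMap.mul (T i) (T i ⊗[R] V)).compl₁₂ ℓ ℓ :=
      (𝔄.e i).ext fun a => (𝔄.e i).ext fun b => by simp [← 𝔄.e_add, hℓ, hadd]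
    exact fun x y => LinearMap.congr_fun₂ this x y
  exact ⟨AlgHom.ofLinearMap ℓ (by rw [← 𝔄.e_zero i, hℓ, h0]) hmul, hℓ⟩

omit [Fintype ι] [DecidableEq ι] [Module.FaithfullyFlat R (Π i, T i)] [∀ i, AddCommGroup (M i)] in
theorem sum_mul_sum {κ U : Type u} [Fintype κ] [CommRing U] {W : Type u} [CommRing W] [Algebra U W] {c : κ → U}
    (hc : CompleteOrthogonalIdempotents c) (a b : κ → W) :
    (∑ k, c k • a k) * (∑ k, c k • b k) = ∑ k, c k • (a k * b k) := by
  classical
  rw [Finset.sum_mul_sum]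
  refine Finset.sum_congr rfl fun k _ => ?_
  rw [Finset.sum_eq_single k]
  · rw [smul_mul_smul_comm, (hc.idem k).eq]
  · intro j _ hj
    rw [smul_mul_smul_comm, hc.ortho hj.symm, zero_smul]
  · simp

/-- The left inclusion into the double tensor product. -/
def K₁ (S : Type u) [CommRing S] [Algebra R S] (F : Type u) [CommRing F] [Algebra R F] :
    S ⊗[R] F →ₐ[S] S ⊗[R] (F ⊗[R] F) :=
  Algebra.TensorProduct.map (AlgHom.id S S) Algebra.TensorProduct.includeLeft

/-- The right inclusion into the double tensor product. -/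
def K₂ (S : Type u) [CommRing S] [Algebra R S] (F : Type u) [CommRing F] [Algebra R F] :
    S ⊗[R] F →ₐ[S] S ⊗[R] (F ⊗[R] F) :=
  Algebra.TensorProduct.map (AlgHom.id S S) Algebra.TensorProduct.includeRight

omit [Fintype ι] [DecidableEq ι] [Module.FaithfullyFlat R (Π i, T i)] in
theorem mp_K₁ {S S' : Type u} [CommRing S] [Algebra R S] [CommRing S'] [Algebra R S'] (f : S →ₐ[R] S')
    (z : S ⊗[R] F) : mp (F ⊗[R] F) f (K₁ S F z) = K₁ S' F (mp F f z) := by
  induction z using TensorProduct.induction_on with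
  | zero => simp
  | add a b ha hb => simp only [map_add, ha, hb]
  | tmul t x => simp [mp_tmul, K₁]

omit [Fintype ι] [DecidableEq ι] [Module.FaithfullyFlat R (Π i, T i)] in
theorem mp_K₂ {S S' : Type u} [CommRing S] [Algebra R S] [CommRing S'] [Algebra R S'] (f : S →ₐ[R] S')
    (z : S ⊗[R] F) : mp (F ⊗[R] F) f (K₂ S F z) = K₂ S' F (mp F f z) := by
  induction z using TensorProduct.induction_on with
  | zero => simp
  | add a b ha hb => simp only [map_add, ha, hb]
  | tmul t x => simp [mp_tmul, K₂]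

theorem Atlas.exists_comul (𝔄 : Atlas R F T M) :
    ∃ Δ : F →ₐ[R] F ⊗[R] F, ∀ i m, Algebra.TensorProduct.map (AlgHom.id (T i) (T i)) Δ (𝔄.e i m) =
      K₁ (T i) F (𝔄.e i m) * K₂ (T i) F (𝔄.e i m) := by
  choose ψ hψ using fun i => 𝔄.exists_local i (fun m => K₁ (T i) F (𝔄.e i m) * K₂ (T i) F (𝔄.e i m))
    (by simp [𝔄.e_zero]) fun a b => by simp only [𝔄.e_add, map_mul]; ring
  obtain ⟨Δ, hΔ⟩ := 𝔄.exists_descend ψ fun i j n => by
    obtain ⟨s, c, hc, hrel⟩ := 𝔄.rel i j n
    rw [hψ, map_mul, mp_K₁, mp_K₂, hrel, map_sum, map_sum, map_sum]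
    simp only [map_smul]
    rw [sum_mul_sum hc]
    refine Finset.sum_congr rfl fun k _ => ?_
    rw [ext_mp, hψ, map_mul, mp_K₁, mp_K₂]
  exact ⟨Δ, fun i m => (hΔ i _).trans (hψ i m)⟩

theorem Atlas.exists_counit (𝔄 : Atlas R F T M) :
    ∃ ε : F →ₐ[R] R, ∀ i m, Algebra.TensorProduct.map (AlgHom.id (T i) (T i)) ε (𝔄.e i m) = 1 := by
  choose ψ hψ using fun i => 𝔄.exists_local (V := R) i (fun _ => 1) rfl fun a b => (one_mul 1).symm
  obtain ⟨ε, hε⟩ := 𝔄.exists_descend ψ fun i j n => by
    obtain ⟨s, c, hc, hrel⟩ := 𝔄.rel i j n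
    rw [hψ, map_one, hrel, map_sum]
    simp only [map_smul, ext_mp, hψ, map_one]
    rw [← Finset.sum_smul, hc.complete, one_smul]
  exact ⟨ε, fun i m => (hε i _).trans (hψ i m)⟩

/-- The glued comultiplication. -/
def Atlas.comul (𝔄 : Atlas R F T M) : F →ₐ[R] F ⊗[R] F := 𝔄.exists_comul.choose

/-- The glued counit. -/
def Atlas.counit (𝔄 : Atlas R F T M) : F →ₐ[R] R := 𝔄.exists_counit.choose

theorem Atlas.comul_e (𝔄 : Atlas R F T M) (i : ι) (m : M i) :
    Algebra.TensorProduct.map (AlgHom.id (T i) (T i)) 𝔄.comul (𝔄.e i m) =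
      K₁ (T i) F (𝔄.e i m) * K₂ (T i) F (𝔄.e i m) :=
  𝔄.exists_comul.choose_spec i m

theorem Atlas.counit_e (𝔄 : Atlas R F T M) (i : ι) (m : M i) :
    Algebra.TensorProduct.map (AlgHom.id (T i) (T i)) 𝔄.counit (𝔄.e i m) = 1 :=
  𝔄.exists_counit.choose_spec i m

omit [Fintype ι] [DecidableEq ι] [Module.FaithfullyFlat R (Π i, T i)] in
theorem map_id_comp {S : Type u} [CommRing S] [Algebra R S] {U V W : Type u} [CommRing U] [Algebra R U] [CommRing V]
    [Algebra R V] [CommRing W] [Algebra R W] (g : V →ₐ[R] W) (h : U →ₐ[R] V) (z : S ⊗[R] U) :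
    Algebra.TensorProduct.map (AlgHom.id S S) (g.comp h) z =
      Algebra.TensorProduct.map (AlgHom.id S S) g (Algebra.TensorProduct.map (AlgHom.id S S) h z) := by
  induction z using TensorProduct.induction_on with
  | zero => simp
  | add p q hp hq => simp only [map_add, hp, hq]
  | tmul s a => simp

/-- The glued bialgebra. -/
@[reducible]
def Atlas.bialgebra (𝔄 : Atlas R F T M) : Bialgebra R F :=
  Bialgebra.ofAlgHom 𝔄.comul 𝔄.counit
    (𝔄.hom_ext fun i m => by
      set z := 𝔄.e i m with hz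
      let S := T i
      let L := fun {U V : Type u} [CommRing U] [Algebra R U] [CommRing V] [Algebra R V] (g : U →ₐ[R] V) =>
        Algebra.TensorProduct.map (AlgHom.id S S) g
      rw [map_id_comp, map_id_comp, map_id_comp, 𝔄.comul_e, map_mul, map_mul, map_mul]
      have a1 : ∀ w : S ⊗[R] F, L (Algebra.TensorProduct.map 𝔄.comul (AlgHom.id R F)) (K₁ S F w) =
          L Algebra.TensorProduct.includeLeft (L 𝔄.comul w) := fun w => by
        simp only [L, K₁, ← map_id_comp]; congr 2
      have a2 : ∀ w : S ⊗[R] F, L (Algebra.TensorProduct.map 𝔄.comul (AlgHom.id R F)) (K₂ S F w) =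
          L Algebra.TensorProduct.includeRight w := fun w => by
        simp only [L, K₂, ← map_id_comp]; congr 2; ext x; simp
      have b1 : ∀ w : S ⊗[R] F, L (Algebra.TensorProduct.map (AlgHom.id R F) 𝔄.comul) (K₁ S F w) =
          L Algebra.TensorProduct.includeLeft w := fun w => by
        simp only [L, K₁, ← map_id_comp]; congr 2; ext x; simp
      have b2 : ∀ w : S ⊗[R] F, L (Algebra.TensorProduct.map (AlgHom.id R F) 𝔄.comul) (K₂ S F w) =
          L Algebra.TensorProduct.includeRight (L 𝔄.comul w) := fun w => by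
        simp only [L, K₂, ← map_id_comp]; congr 2
      simp only [L, S] at a1 a2 b1 b2
      rw [a1, a2, b1, b2, 𝔄.comul_e, map_mul, map_mul, map_mul, K₁, K₂]
      simp only [← map_id_comp]
      rw [mul_assoc]
      congr 1)
    (𝔄.hom_ext fun i m => by
      rw [map_id_comp, 𝔄.comul_e, map_mul, K₁, K₂]
      have e1 : Algebra.TensorProduct.map (AlgHom.id (T i) (T i))
          (Algebra.TensorProduct.map 𝔄.counit (AlgHom.id R F))
          (Algebra.TensorProduct.map (AlgHom.id (T i) (T i)) Algebra.TensorProduct.includeLeft (𝔄.e i m)) =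
          Algebra.TensorProduct.map (AlgHom.id (T i) (T i)) Algebra.TensorProduct.includeLeft
            (Algebra.TensorProduct.map (AlgHom.id (T i) (T i)) 𝔄.counit (𝔄.e i m)) := by
        simp only [← map_id_comp]; congr 2
      rw [e1, 𝔄.counit_e, map_one, one_mul, ← map_id_comp]
      congr 2; ext x; simp)
    (𝔄.hom_ext fun i m => by
      rw [map_id_comp, 𝔄.comul_e, map_mul, K₁, K₂]
      have e1 : Algebra.TensorProduct.map (AlgHom.id (T i) (T i))
          (Algebra.TensorProduct.map (AlgHom.id R F) 𝔄.counit)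
          (Algebra.TensorProduct.map (AlgHom.id (T i) (T i)) Algebra.TensorProduct.includeRight (𝔄.e i m)) =
          Algebra.TensorProduct.map (AlgHom.id (T i) (T i)) Algebra.TensorProduct.includeRight
            (Algebra.TensorProduct.map (AlgHom.id (T i) (T i)) 𝔄.counit (𝔄.e i m)) := by
        simp only [← map_id_comp]; congr 2
      rw [e1, 𝔄.counit_e, map_one, mul_one, ← map_id_comp]
      congr 2; ext x; simp)

theorem Atlas.exists_antipode (𝔄 : Atlas R F T M) :
    ∃ s : F →ₐ[R] F, ∀ i m, Algebra.TensorProduct.map (AlgHom.id (T i) (T i)) s (𝔄.e i m) = 𝔄.e i (-m) := by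
  choose ψ hψ using fun i => 𝔄.exists_local i (fun m => 𝔄.e i (-m)) (by rw [neg_zero, 𝔄.e_zero])
    fun a b => by rw [neg_add, 𝔄.e_add]
  obtain ⟨s, hs⟩ := 𝔄.exists_descend ψ fun i j n => by
    obtain ⟨s, c, hc, hrel⟩ := 𝔄.rel i j n
    rw [hψ, hrel, map_sum]
    simp only [map_smul, ext_mp, hψ]
    have h1 : mp F Algebra.TensorProduct.includeRight (𝔄.e j (-n)) *
        mp F (Algebra.TensorProduct.includeRight : T j →ₐ[R] T i ⊗[R] T j) (𝔄.e j n) = 1 := by
      rw [← map_mul, ← 𝔄.e_add, neg_add_cancel, 𝔄.e_zero, map_one]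
    have h2 : (∑ k : s, c k • mp F (Algebra.TensorProduct.includeLeft : T i →ₐ[R] T i ⊗[R] T j) (𝔄.e i (-(k : M i)))) *
        mp F (Algebra.TensorProduct.includeRight : T j →ₐ[R] T i ⊗[R] T j) (𝔄.e j n) = 1 := by
      rw [hrel, sum_mul_sum hc]
      simp only [← map_mul, ← 𝔄.e_add, neg_add_cancel, 𝔄.e_zero, map_one]
      rw [← Finset.sum_smul, hc.complete, one_smul]
    exact (left_inv_eq_right_inv h2 ((mul_comm _ _).trans h1))
  exact ⟨s, fun i m => (hs i _).trans (hψ i m)⟩

/-- The glued antipode. -/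
def Atlas.antipode (𝔄 : Atlas R F T M) : F →ₐ[R] F := 𝔄.exists_antipode.choose

theorem Atlas.antipode_e (𝔄 : Atlas R F T M) (i : ι) (m : M i) :
    Algebra.TensorProduct.map (AlgHom.id (T i) (T i)) 𝔄.antipode (𝔄.e i m) = 𝔄.e i (-m) :=
  𝔄.exists_antipode.choose_spec i m

/-- The glued Hopf algebra. -/
@[reducible]
def Atlas.hopf (𝔄 : Atlas R F T M) : HopfAlgebra R F :=
  letI := 𝔄.bialgebra
  HopfAlgebra.ofAlgHom 𝔄.antipode
    (𝔄.hom_ext fun i m => by
      rw [show Bialgebra.comulAlgHom R F = 𝔄.comul from rfl, show Bialgebra.counitAlgHom R F = 𝔄.counit from rfl,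
        map_id_comp, map_id_comp, 𝔄.comul_e, map_mul, 𝔄.counit_e, map_one, K₁, K₂]
      simp only [← map_id_comp, Algebra.TensorProduct.lift_comp_includeLeft,
        Algebra.TensorProduct.lift_comp_includeRight']
      rw [Algebra.TensorProduct.map_id]
      simp only [AlgHom.id_apply, 𝔄.antipode_e, ← 𝔄.e_add, neg_add_cancel, 𝔄.e_zero])
    (𝔄.hom_ext fun i m => by
      rw [show Bialgebra.comulAlgHom R F = 𝔄.comul from rfl, show Bialgebra.counitAlgHom R F = 𝔄.counit from rfl,
        map_id_comp, map_id_comp, 𝔄.comul_e, map_mul, 𝔄.counit_e, map_one, K₁, K₂]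
      simp only [← map_id_comp, Algebra.TensorProduct.lift_comp_includeLeft,
        Algebra.TensorProduct.lift_comp_includeRight']
      rw [Algebra.TensorProduct.map_id]
      simp only [AlgHom.id_apply, 𝔄.antipode_e, ← 𝔄.e_add, add_neg_cancel, 𝔄.e_zero])

theorem Atlas.isGL (𝔄 : Atlas R F T M) (i : ι) (m : M i) :
    letI := 𝔄.bialgebra
    Groth.Agent.TorusField.IsGL R F (T i) (𝔄.e i m) := by
  letI := 𝔄.bialgebra
  refine ⟨𝔄.comul_e i m, ?_⟩
  have e : Groth.Agent.TorusField.ev1 R F (T i) = (Algebra.TensorProduct.rid R (T i) (T i)).toAlgHom.comp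
      (Algebra.TensorProduct.map (AlgHom.id (T i) (T i)) 𝔄.counit) :=
    Algebra.TensorProduct.ext (Subsingleton.elim _ _) (AlgHom.ext fun x => by
      simp [Groth.Agent.TorusField.ev1, Algebra.smul_def]; rfl)
  rw [e, AlgHom.comp_apply, 𝔄.counit_e, map_one]

/-- The splitting of the glued Hopf algebra over a member of the cover. -/
def Atlas.split (𝔄 : Atlas R F T M) (i : ι) :
    letI := 𝔄.bialgebra
    Groth.Agent.TorusField.Split R F (M i) (T i) :=
  letI := 𝔄.bialgebra
  ⟨𝔄.e i, 𝔄.e_zero i, 𝔄.e_add i, 𝔄.isGL i⟩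

end Groth.Agent.HopfDesc
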