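import Groth.Agent.HopfDescLib.Coi
import Groth.Agent.DiagHopfLib.Descent
import Mathlib.RingTheory.Ideal.Quotient.Operations

set_option autoImplicit false

/-!
Lifting transition data of local splittings along idempotent bijections.
-/

noncomputable section

universe u

open scoped TensorProduct
open MonoidAlgebra
open Groth.Agent.TorusField

namespace Groth.Agent.HopfDesc

variable {R : Type u} [CommRing R] (I : Ideal R)

/-- The reduction of an algebra. -/
abbrev B (U : Type u) [CommRing U] [Algebra R U] : Type u := (R ⧸ I) ⊗[R] U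

/-- The reduction map. -/
def red (U : Type u) [CommRing U] [Algebra R U] : U →ₐ[R] B I U := Algebra.TensorProduct.includeRight

/-- The reduction of a map. -/
def bar {U U' : Type u} [CommRing U] [Algebra R U] [CommRing U'] [Algebra R U'] (f : U →ₐ[R] U') :
    B I U →ₐ[R ⧸ I] B I U' :=
  Algebra.TensorProduct.map (AlgHom.id (R ⧸ I) (R ⧸ I)) f

/-- Idempotents are determined by their reduction. -/
def Rigid (U : Type u) [CommRing U] [Algebra R U] : Prop := Set.InjOn (red I U) {e | IsIdempotentElem e}

/-- Idempotents lift uniquely. -/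
def Liftable (U : Type u) [CommRing U] [Algebra R U] : Prop :=
  Set.BijOn (red I U) {e | IsIdempotentElem e} {e | IsIdempotentElem e}

variable {A₀ : Type u} [CommRing A₀] [HopfAlgebra (R ⧸ I) A₀] {ι : Type u} {T : ι → Type u} [∀ i, CommRing (T i)]
  [∀ i, Algebra R (T i)] {M : ι → Type u} [∀ i, AddCommGroup (M i)]
  (E : ∀ i, Split (R ⧸ I) A₀ (M i) (B I (T i)))

/-- The reduced coordinate rings are commutative rings. -/
instance instCommRingRed (U : Type u) [CommRing U] [Algebra R U] : CommRing (B I U ⊗[R ⧸ I] A₀) :=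
  Algebra.TensorProduct.instCommRing

theorem push_bar_bar {U U' U'' : Type u} [CommRing U] [Algebra R U] [CommRing U'] [Algebra R U'] [CommRing U'']
    [Algebra R U''] (f : U →ₐ[R] U') (h : U' →ₐ[R] U'') (x : B I U ⊗[R ⧸ I] A₀) :
    push (bar I h) (push (bar I f) x) = push (bar I (h.comp f)) x := by
  induction x using TensorProduct.induction_on with
  | zero => simp
  | add p q hp hq => simp only [map_add, hp, hq]
  | tmul s a =>
    induction s using TensorProduct.induction_on with
    | zero => simp
    | add p q hp hq => simp only [TensorProduct.add_tmul, map_add, hp, hq]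
    | tmul r u => simp [push, bar]

theorem push_bar_id {U : Type u} [CommRing U] [Algebra R U] (x : B I U ⊗[R ⧸ I] A₀) :
    push (bar I (AlgHom.id R U)) x = x := by
  induction x using TensorProduct.induction_on with
  | zero => simp
  | add p q hp hq => simp only [map_add, hp, hq]
  | tmul s a => simp [push, bar]

/-- Evaluation of an element of a group algebra in the coordinates of a splitting. -/
def Θ (i : ι) {U : Type u} [CommRing U] [Algebra R U] (f : T i →ₐ[R] U) :
    MonoidAlgebra U (Multiplicative (M i)) →ₐ[R] B I U ⊗[R ⧸ I] A₀ :=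
  liftNCAlgHom ((Algebra.TensorProduct.includeLeft : B I U →ₐ[R] B I U ⊗[R ⧸ I] A₀).comp (red I U))
    ((push (bar I f)).toRingHom.toMonoidHom.comp (E i).hom) fun _ _ => Commute.all _ _

variable {I}

theorem Θ_single (i : ι) {U : Type u} [CommRing U] [Algebra R U] (f : T i →ₐ[R] U) (n : Multiplicative (M i))
    (u : U) : Θ I E i f (single n u) = red I U u • push (bar I f) ((E i).e n.toAdd) := by
  have e : ∀ (c : B I U) (x : B I U ⊗[R ⧸ I] A₀), c • x = (c ⊗ₜ 1) * x := fun c x => by
    induction x using TensorProduct.induction_on with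
    | zero => simp
    | add p q hp hq => rw [smul_add, hp, hq, mul_add]
    | tmul s a => rw [TensorProduct.smul_tmul', smul_eq_mul, Algebra.TensorProduct.tmul_mul_tmul, one_mul]
  rw [e]
  simp [Θ, Split.hom]

theorem push_Θ (i : ι) {U U' : Type u} [CommRing U] [Algebra R U] [CommRing U'] [Algebra R U'] (f : T i →ₐ[R] U)
    (h : U →ₐ[R] U') (z : MonoidAlgebra U (Multiplicative (M i))) :
    push (bar I h) (Θ I E i f z) = Θ I E i (h.comp f) (mapAlgHom _ h z) := by
  induction z using MonoidAlgebra.induction_linear with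
  | zero => simp
  | add p q hp hq => simp only [map_add, hp, hq]
  | single n u =>
    rw [mapAlgHom_single, Θ_single, Θ_single, push_smul, push_bar_bar]
    congr 1

theorem Θ_lin (i j : ι) {U V : Type u} [CommRing U] [Algebra R U] [CommRing V] [Algebra R V] (f : T i →ₐ[R] U)
    (f' : T j →ₐ[R] U) (s : V →ₐ[R] U) (g : Multiplicative (M j) →* MonoidAlgebra U (Multiplicative (M i)))
    (hg : ∀ n, Θ I E i f (g n) = push (bar I f') ((E j).e n.toAdd)) (z : MonoidAlgebra V (Multiplicative (M j))) :
    Θ I E i f (lin s g z) = Θ I E j f' (mapAlgHom _ s z) := by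
  induction z using MonoidAlgebra.induction_linear with
  | zero => simp
  | add p q hp hq => simp only [map_add, hp, hq]
  | single n v =>
    rw [lin_single, map_mul, Θ_single, mapAlgHom_single, Θ_single, hg, toAdd_one, (E i).e_zero, map_one,
      smul_mul_assoc]
    simp

theorem exists_Θ_repr (i : ι) {U : Type u} [CommRing U] [Algebra R U] (f : T i →ₐ[R] U) :
    ∃ E' : Split (R ⧸ I) A₀ (M i) (B I U), ∀ z a,
      E'.e.repr (Θ I E i f z) a = red I U (z.coeff (Multiplicative.ofAdd a)) := by
  classical
  obtain ⟨E', hE'⟩ := exists_split_push (E i) (bar I f)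
  refine ⟨E', fun z a => ?_⟩
  induction z using MonoidAlgebra.induction_linear with
  | zero => simp
  | add p q hp hq => simp [hp, hq]
  | single n u =>
    rw [Θ_single, ← hE', map_smul, Module.Basis.repr_self, Finsupp.smul_single, smul_eq_mul, mul_one, coeff_single,
      Finsupp.single_apply, Finsupp.single_apply]
    by_cases h : n.toAdd = a
    · rw [if_pos h, if_pos (by rw [← h]; rfl)]
    · rw [if_neg h, if_neg (fun h' => h (by rw [h']; rfl)), map_zero]

theorem Θ_injective (i : ι) {U : Type u} [CommRing U] [Algebra R U] (hU : Rigid I U) (f : T i →ₐ[R] U)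
    {z w : MonoidAlgebra U (Multiplicative (M i))} (hz : IsCOI z) (hw : IsCOI w) (h : Θ I E i f z = Θ I E i f w) :
    z = w := by
  obtain ⟨E', hE'⟩ := exists_Θ_repr E i f
  refine hz.eq_of_map_eq (red I U) hU hw (MonoidAlgebra.coeff_injective (Finsupp.ext fun a => ?_))
  rw [coeff_mapAlgHom, coeff_mapAlgHom]
  exact (hE' z a.toAdd).symm.trans (h ▸ hE' w a.toAdd)

theorem exists_Θ_eq (i : ι) {U : Type u} [CommRing U] [Algebra R U] (hU : Liftable I U) (f : T i →ₐ[R] U)
    {x : B I U ⊗[R ⧸ I] A₀} (hx : IsGL (R ⧸ I) A₀ (B I U) x) : ∃ z, IsCOI z ∧ Θ I E i f z = x := by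
  classical
  obtain ⟨E', hE'⟩ := exists_Θ_repr E i f
  let w : MonoidAlgebra (B I U) (Multiplicative (M i)) :=
    MonoidAlgebra.ofCoeff ((E'.e.repr x).equivMapDomain Multiplicative.ofAdd)
  have hwc : ∀ a, w.coeff a = E'.e.repr x a.toAdd := fun a => rfl
  have hw : IsCOI w := by
    refine isCOI_iff.2 ⟨fun a b => ?_, ?_⟩
    · rw [hwc, hwc, E'.repr_idem hx]
      simp [Multiplicative.toAdd.injective.eq_iff]
    · rw [← E'.sum_repr_gl hx]
      show ((E'.e.repr x).equivMapDomain Multiplicative.ofAdd).sum (fun _ c => c) = _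
      rw [Finsupp.sum_equivMapDomain]
  obtain ⟨z, hz, hzw⟩ := hw.exists_lift (red I U) hU
  refine ⟨z, hz, E'.e.ext_elem fun a => ?_⟩
  rw [hE', ← coeff_mapAlgHom, hzw, hwc]
  rfl

/-- The transition elements. -/
theorem exists_transition (hT₂ : ∀ i j, Liftable I (T i ⊗[R] T j)) (i j : ι) :
    ∃ g : Multiplicative (M j) →* X R T M i j, ∀ n, IsCOI (g n) ∧
      Θ I E i Algebra.TensorProduct.includeLeft (g n) =
        push (bar I Algebra.TensorProduct.includeRight) ((E j).e n.toAdd) := by
  choose g hg hg' using fun n : Multiplicative (M j) =>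
    exists_Θ_eq E i (hT₂ i j) Algebra.TensorProduct.includeLeft
      (((E j).gl n.toAdd).push (bar I Algebra.TensorProduct.includeRight))
  exact ⟨{
      toFun := g
      map_one' := Θ_injective E i (hT₂ i j).injOn _ (hg 1) (IsCOI.single_one 1) (by
        rw [hg', toAdd_one, (E j).e_zero, map_one]
        exact (map_one (Θ I E i (Algebra.TensorProduct.includeLeft : T i →ₐ[R] T i ⊗[R] T j))).symm)
      map_mul' := fun a b => Θ_injective E i (hT₂ i j).injOn _ (hg _) ((hg a).mul (hg b)) (by
        rw [hg', toAdd_mul, (E j).e_add, map_mul, map_mul, hg', hg']) }, fun n => ⟨hg n, hg' n⟩⟩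

/-- The transition data lifting those of the splittings. -/
theorem exists_datum (hT₁ : ∀ i, Rigid I (T i)) (hT₂ : ∀ i j, Liftable I (T i ⊗[R] T j))
    (hT₃ : ∀ i j k, Rigid I ((T i ⊗[R] T j) ⊗[R] T k)) :
    ∃ d : Datum R T M, ∀ i j n, Θ I E i Algebra.TensorProduct.includeLeft (d.g i j n) =
        push (bar I Algebra.TensorProduct.includeRight) ((E j).e n.toAdd) := by
  choose g hg using fun i j => exists_transition E hT₂ i j
  refine ⟨⟨g, fun i j n => (hg i j n).1.complete, fun i n => ?_, fun i j k n => ?_⟩, fun i j n => (hg i j n).2⟩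
  · refine Θ_injective E i (hT₁ i) (AlgHom.id R (T i)) ((hg i i n).1.map _) (IsCOI.single_one n) ?_
    have e1 : (Algebra.TensorProduct.lmul' R (S := T i)).comp Algebra.TensorProduct.includeLeft = AlgHom.id R (T i) := by
      ext; simp
    have e2 : (Algebra.TensorProduct.lmul' R (S := T i)).comp Algebra.TensorProduct.includeRight = AlgHom.id R (T i) := by
      ext; simp
    rw [Θ_single, map_one, one_smul]
    conv_lhs => rw [← e1]
    rw [← push_Θ, (hg i i n).2, push_bar_bar, e2]
  · have h1 : (p₁₃ R T i j k).comp Algebra.TensorProduct.includeLeft =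
        (p₁₂ R T i j k).comp Algebra.TensorProduct.includeLeft := by
      ext; simp [p₁₂, p₁₃, Algebra.TensorProduct.one_def]
    have h2 : (p₂₃ R T i j k).comp Algebra.TensorProduct.includeLeft =
        (p₁₂ R T i j k).comp Algebra.TensorProduct.includeRight := by
      ext; simp [p₁₂, p₂₃]
    have h3 : (p₂₃ R T i j k).comp Algebra.TensorProduct.includeRight =
        (p₁₃ R T i j k).comp Algebra.TensorProduct.includeRight := by
      ext; simp [p₁₃, p₂₃, Algebra.TensorProduct.one_def]
    refine Θ_injective E i (hT₃ i j k) ((p₁₂ R T i j k).comp Algebra.TensorProduct.includeLeft)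
      ((hg j k n).1.lin _ _ fun a => (hg i j a).1.map _) ((hg i k n).1.map _) ?_
    rw [Θ_lin E i j ((p₁₂ R T i j k).comp Algebra.TensorProduct.includeLeft)
        ((p₁₂ R T i j k).comp Algebra.TensorProduct.includeRight) (p₂₃ R T i j k) _ (fun a => by
          show Θ I E i _ (mapAlgHom _ (p₁₂ R T i j k) (g i j a)) = _
          rw [← push_Θ, (hg i j a).2, push_bar_bar]),
      ← h2, ← push_Θ, (hg j k n).2, push_bar_bar, ← h1, ← push_Θ, (hg i k n).2, push_bar_bar, h3]

end Groth.Agent.HopfDesc
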